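import Cfsg.Agent.Mrg.Omega.IId.OneJ
import Cfsg.Agent.Mrg.Omega.IId.OneBase
import Cfsg.Agent.Mrg.Omega.VP
import Cfsg.Agent.Mrg.Omega.TV.Sym
import Cfsg.Agent.Mrg.Omega.Sec.Faithful
import Cfsg.Agent.Mrg.ParSys.Main
import Cfsg.Agent.Mrg.ParSys.FreeTrans

-- merged: Cfsg.Agent.Mrg.Omega.IId.SpKill
section

section


/-!
# II.d, CASE 1, `q = 2`: KILL OF `Sp₄(2)` (#14451; referee #14584)

`One`, case B (`[N₁, N₂] ≠ 1`), `|N₁| = 32` and an invariant quadratic form on `N₁` with radical `⟨v₁⟩`: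
impossible.
-/

set_option autoImplicit false

namespace Cfsg.Agent.Omega.IId.SpKill

open Subgroup Cfsg.Agent.Omega.NoFF.Basic Cfsg Cfsg.Agent.ZN Cfsg.Agent.Omega.IId.SpSide
open Cfsg.Agent.Omega.IId.SpForm Cfsg.Agent.Omega.IId.One
open scoped Pointwise

universe u

variable {G : Type u} [Group G]

section

variable {T V₁ V₂ L₁ L₂ : Subgroup G} {v₁ v₂ s : G}

/-- `N₁ = ⟨V₂^{C₁}⟩` -/
abbrev NN (v₁ : G) (V₂ : Subgroup G) : Subgroup G := nc v₁ (V₂ : Set G)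

theorem V2_le_NN (v₁ : G) (V₂ : Subgroup G) : V₂ ≤ NN v₁ V₂ := subset_nc v₁ _

section basic

variable (h : Base T V₁ V₂ L₁ L₂ v₁ v₂ s)
include h

/-- `N₁ ≤ O₂(C₁)` -/
theorem NN_le_o2 : NN v₁ V₂ ≤ ZN.o2 (cz v₁) := nc_le h.half1 (le_normalizer_o2 _)

/-- `O₂(C₁)` centralises `N₁`. -/
theorem NN_le_cent : NN v₁ V₂ ≤ centralizer (ZN.o2 (cz v₁) : Set G) := by
  refine nc_le (fun x hx => ?_) ?_
  · rw [SetLike.mem_coe, mem_centralizer_iff]
    exact fun y hy => h.halfc1 y hy x hx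
  · intro c hc
    apply mem_normalizer_of_conj
    rw [Side.conj_centralizer, SpSide.conj_eq (le_normalizer_o2 _ hc)]

theorem NN_comm : NN v₁ V₂ ≤ centralizer (NN v₁ V₂ : Set G) :=
  (NN_le_cent h).trans (centralizer_le (NN_le_o2 h))

theorem NN_sq : ∀ x ∈ NN v₁ V₂, x * x = 1 := by
  intro x hx
  have key : NN v₁ V₂ ≤
      { carrier := {x | x ∈ NN v₁ V₂ ∧ x * x = 1}
        one_mem' := ⟨one_mem _, one_mul 1⟩
        mul_mem' := by
          rintro x y ⟨hx, hx2⟩ ⟨hy, hy2⟩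
          refine ⟨mul_mem hx hy, ?_⟩
          have h1 : x * y = y * x := (mem_centralizer_iff.1 (NN_comm h hx) y hy).symm
          calc x * y * (x * y) = x * (y * x) * y := by group
            _ = x * (x * y) * y := by rw [h1]
            _ = (x * x) * (y * y) := by group
            _ = 1 := by rw [hx2, hy2, one_mul]
        inv_mem' := by
          rintro x ⟨hx, hx2⟩
          refine ⟨inv_mem hx, ?_⟩
          rw [← mul_inv_rev, hx2, inv_one] } := by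
    refine (closure_le _).2 ?_
    rintro _ ⟨g, hg, a, ha, rfl⟩
    refine ⟨conj_mem_nc hg ha, ?_⟩
    calc g * a * g⁻¹ * (g * a * g⁻¹) = g * (a * a) * g⁻¹ := by group
      _ = 1 := by rw [h.q2 a ha]; group
  exact (key hx).2

theorem NN_le_cz2 : NN v₁ V₂ ≤ cz v₂ := by
  refine (NN_le_cent h).trans (centralizer_le ?_)
  rintro _ rfl
  exact h.half1 h.vV2

/-- `⁅N₁, N₂⁆ ≤ N₁ ∩ N₂` -/
theorem comm_le : ⁅NN v₁ V₂, NN v₂ V₁⁆ ≤ NN v₁ V₂ ⊓ NN v₂ V₁ :=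
  le_inf (le_normalizer_iff_commutator_le_left.1 ((NN_le_cz2 h.symm).trans (le_normalizer_nc _ _)))
    (le_normalizer_iff_commutator_le_right.1 ((NN_le_cz2 h).trans (le_normalizer_nc _ _)))

theorem conj_V2 [Finite G] : MulAut.conj s • V₂ = V₁ := by
  apply Subgroup.eq_of_le_of_card_ge
  · intro x hx
    rw [mem_conj] at hx
    have := h.s2 _ hx
    have e : s * (s⁻¹ * x * s) * s⁻¹ = x := by group
    rwa [e] at this
  · rw [Side.card_conj, h.card1, h.card2]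

/-- conjugation by `s` -/
theorem conj_s [Finite G] : MulAut.conj s • NN v₁ V₂ = NN v₂ V₁ := by
  apply le_antisymm
  · intro x hx
    rw [mem_conj] at hx
    have := conj_nc h.sv1 h.s2 hx
    have e : s * (s⁻¹ * x * s) * s⁻¹ = x := by group
    rwa [e] at this
  · intro x hx
    rw [mem_conj]
    have hv : s⁻¹ * v₂ * s⁻¹⁻¹ = v₁ := by rw [← h.sv1]; group
    have hA : ∀ a ∈ (V₁ : Set G), s⁻¹ * a * s⁻¹⁻¹ ∈ (V₂ : Set G) := by
      intro a ha
      have h1 : a ∈ MulAut.conj s • V₂ := by rw [conj_V2 h]; exact ha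
      rw [mem_conj] at h1
      rw [inv_inv]
      exact h1
    have := conj_nc hv hA hx
    rwa [inv_inv] at this

end basic

/-- case B gives `v₁ ∈ N₁` -/
theorem v1_mem [Finite G] (h : Base T V₁ V₂ L₁ L₂ v₁ v₂ s) (hNT : ZN.o2 (cz v₁) ≤ T)
    (hB : ¬ NN v₁ V₂ ≤ centralizer (NN v₂ V₁ : Set G)) : v₁ ∈ NN v₁ V₂ := by
  have hne : ⁅NN v₁ V₂, NN v₂ V₁⁆ ≠ ⊥ := fun e => hB (commutator_eq_bot_iff_le_centralizer.1 e)
  have hle := comm_le h
  have hT : T ≤ normalizer ((⁅NN v₁ V₂, NN v₂ V₁⁆ : Subgroup G) : Set G) := by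
    intro t ht
    apply mem_normalizer_of_conj
    have h1 : MulAut.conj t • NN v₁ V₂ = NN v₁ V₂ := SpSide.conj_eq (le_normalizer_nc _ _ (h.T_le ht))
    have h2 : MulAut.conj t • NN v₂ V₁ = NN v₂ V₁ := SpSide.conj_eq (le_normalizer_nc _ _ (h.T_le2 ht))
    have h3 : MulAut.conj t • ⁅NN v₁ V₂, NN v₂ V₁⁆ = ⁅MulAut.conj t • NN v₁ V₂, MulAut.conj t • NN v₂ V₁⁆ :=
      Subgroup.map_commutator _ _ _
    rw [h3, h1, h2]
  obtain ⟨x, hx, hx1, hxT⟩ := NoFF.LinesPlug.exists_fixed h.pT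
    ((hle.trans inf_le_left).trans ((NN_le_o2 h).trans hNT)) hT hne
  have hxN : x ∈ NN v₁ V₂ := (hle hx).1
  rcases h.fix x (hNT (NN_le_o2 h hxN)) (NN_sq h x hxN) hxT with h1 | h1 | h1 | h1
  · exact absurd h1 hx1
  · exact h1 ▸ hxN
  · have h3 : MulAut.conj s • ⁅NN v₁ V₂, NN v₂ V₁⁆ = ⁅MulAut.conj s • NN v₁ V₂, MulAut.conj s • NN v₂ V₁⁆ :=
      Subgroup.map_commutator _ _ _
    have h4 : MulAut.conj s • ⁅NN v₁ V₂, NN v₂ V₁⁆ = ⁅NN v₁ V₂, NN v₂ V₁⁆ := by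
      rw [h3, conj_s h, conj_s h.symm, commutator_comm]
    have h5 : s * x * s⁻¹ ∈ MulAut.conj s • ⁅NN v₁ V₂, NN v₂ V₁⁆ := SpSide.conj_mem hx
    rw [h4, h1, h.sv2] at h5
    exact (hle h5).1
  · have h2 : x * v₂⁻¹ = v₁ := by rw [h1]; group
    have h3 := mul_mem hxN (inv_mem (V2_le_NN v₁ _ h.vV2))
    rw [h2] at h3
    exact h3

/-- The side `(v₁, V₁, N₁)`. -/
theorem exists_side [Finite G] (h : One T V₁ V₂ L₁ L₂ v₁ v₂ s) (hV : V₁ ≤ ZN.o2 (cz v₁))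
    (hK : Kk v₁ ≤ ZN.o2 (cz v₁)) (hv : v₁ ∈ NN v₁ V₂) {v' : G} (hv' : v' ∈ V₁) (hv'1 : v' ≠ 1) (hv'v : v' ≠ v₁) :
    ∃ w, ∃ l ∈ L₁, Side V₁ V₂ (NN v₁ V₂) v₁ v' w l := by
  obtain ⟨w, hw, x, hx, hwx⟩ := h.k1
  obtain ⟨l, hl, hlv⟩ := h.t1 v₁ h.vV1 h.v1 v' hv' hv'1
  have hb := h.toBase
  have hwx' : w * x * w⁻¹ = v₁ * x := by
    rcases Kk_conj hb.vq1 hw (hV hx) with h1 | h1
    · rw [mul_inv_eq_iff_eq_mul] at h1
      exact absurd h1 hwx
    · exact h1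
  have hwv : w * v₁ * w⁻¹ = v₁ := by rw [mem_cz.1 hw.1, mul_inv_cancel_right]
  -- `w` moves `v'`
  have hwv' : w * v' * w⁻¹ = v₁ * v' := by
    rcases Kk_conj hb.vq1 hw (hV hv') with h1 | h1
    · exfalso
      apply hwx
      rcases hb.mem_V1 hx hv' hv'1 hv'v with h2 | h2 | h2 | h2
      · rw [h2]; group
      · rw [h2]; exact mem_cz.1 hw.1
      · rw [h2]; rw [mul_inv_eq_iff_eq_mul] at h1; exact h1
      · rw [h2]
        have e : w * (v₁ * v') * w⁻¹ = v₁ * v' := by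
          calc w * (v₁ * v') * w⁻¹ = (w * v₁ * w⁻¹) * (w * v' * w⁻¹) := by group
            _ = v₁ * v' := by rw [hwv, h1]
        rw [mul_inv_eq_iff_eq_mul] at e
        exact e
    · exact h1
  refine ⟨w, l, hl, ?_⟩
  exact {
    memV := fun y => ⟨fun hy => hb.mem_V1 hy hv' hv'1 hv'v, by
      rintro (rfl | rfl | rfl | rfl)
      · exact one_mem _
      · exact h.vV1
      · exact hv'
      · exact mul_mem h.vV1 hv'⟩
    v1 := h.v1
    v'1 := hv'1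
    ne := Ne.symm hv'v
    vv := hb.vq1
    v'v' := h.q1 _ hv'
    comm := h.c1 _ h.vV1 _ hv'
    nor := le_normalizer_nc _ _
    ab := NN_comm hb
    sq := NN_sq hb
    WN := V2_le_NN _ _
    vN := hv
    NV := (NN_le_cent hb).trans (centralizer_le hV)
    l_v := hlv
    l_V := hb.L_norm1 hl
    l_W := mem_centralizer_iff.2 fun y hy => (h.L12 l hl y hy).symm
    w_v' := hwv'
    w_N := mem_centralizer_iff.2 fun y hy => (mem_centralizer_iff.1 (NN_le_cent hb hy) w (hK hw)).symm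
    w_Q := fun y hy => by
      rcases Kk_conj hb.vq1 hw hy with h1 | h1
      · left; rw [h1, inv_mul_cancel]
      · right
        rw [h1]
        have h2 := mem_cz.1 (o2_le _ hy)
        rw [← h2, ← mul_assoc, inv_mul_cancel, one_mul] }

theorem frm [Finite G] (h : Base T V₁ V₂ L₁ L₂ v₁ v₂ s) (hv : v₁ ∈ NN v₁ V₂) {Q : G → ZMod 2}
    (hQ : QF (NN v₁ V₂) (cz v₁) v₁ Q) (hQ2 : Q v₂ = 0) (h32 : Nat.card (NN v₁ V₂) = 32) :
    Frm (NN v₁ V₂) V₂ (cz v₁) v₁ Q where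
  toQF := hQ
  ab := fun x hx y hy => (mem_centralizer_iff.1 (NN_comm h hx) y hy).symm
  sq := NN_sq h
  WN := V2_le_NN _ _
  vN := hv
  cN := h32
  cW := h.card2
  QW := fun x hx => by
    by_cases hx1 : x = 1
    · rw [hx1]; exact hQ.Q_one
    obtain ⟨l, hl, rfl⟩ := h.t2 v₂ h.vV2 h.v2 x hx hx1
    rw [hQ.inv l (h.L2_le hl) v₂ (V2_le_NN _ _ h.vV2), hQ2]

/-- **KILL OF `Sp₄(2)`** -/
theorem kill [Finite G] (h : One T V₁ V₂ L₁ L₂ v₁ v₂ s) (hNT : ZN.o2 (cz v₁) ≤ T) (hV : V₁ ≤ ZN.o2 (cz v₁))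
    (hK : Kk v₁ ≤ ZN.o2 (cz v₁)) (hB : ¬ NN v₁ V₂ ≤ centralizer (NN v₂ V₁ : Set G)) {Q : G → ZMod 2}
    (hQ : QF (NN v₁ V₂) (cz v₁) v₁ Q) (hQ2 : Q v₂ = 0) (h32 : Nat.card (NN v₁ V₂) = 32) : False := by
  have hb := h.toBase
  have hv := v1_mem hb hNT hB
  have hs1 : s⁻¹ * v₁ * s⁻¹⁻¹ = v₂ := by rw [← h.sv2]; group
  -- side 2
  have hv2 : v₂ ∈ NN v₂ V₁ := by
    rw [← conj_s hb, ← h.sv1]
    exact SpSide.conj_mem hv
  have hV2 : V₂ ≤ ZN.o2 (cz v₂) := by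
    intro x hx
    rw [← conj_V2 hb.symm, mem_conj] at hx
    have := conj_o2_cz h.sv1 (hV hx)
    have e : s * (s⁻¹ * x * s) * s⁻¹ = x := by group
    rwa [e] at this
  have hK2 : Kk v₂ ≤ ZN.o2 (cz v₂) := by
    intro x hx
    have h1 := conj_o2_cz hs1 (hK (conj_Kk h.sv2 hx))
    have e : s⁻¹ * (s * x * s⁻¹) * s⁻¹⁻¹ = x := by group
    rwa [e] at h1
  obtain ⟨w0, hw0, v', hv', hwv'⟩ := h.k1
  have hv'1 : v' ≠ 1 := by rintro rfl; exact hwv' (by group)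
  have hv'v : v' ≠ v₁ := by rintro rfl; exact hwv' (mem_cz.1 hw0.1)
  obtain ⟨w, l, hl, S1⟩ := exists_side h hV hK hv hv' hv'1 hv'v
  have hv2' : s * v' * s⁻¹ ∈ V₂ := h.s1 v' hv'
  have hv2'1 : s * v' * s⁻¹ ≠ 1 := fun e => hv'1 (by
    calc v' = s⁻¹ * (s * v' * s⁻¹) * s := by group
      _ = 1 := by rw [e]; group)
  have hv2'v : s * v' * s⁻¹ ≠ v₂ := fun e => hv'v (by
    calc v' = s⁻¹ * (s * v' * s⁻¹) * s := by group
      _ = s⁻¹ * (s * v₁ * s⁻¹) * s := by rw [e, h.sv1]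
      _ = v₁ := by group)
  obtain ⟨w2, l2, hl2, S2⟩ := exists_side h.symm hV2 hK2 hv2 hv2' hv2'1 hv2'v
  set F : Subgroup G := NN v₁ V₂ ⊓ MulAut.conj l • NN v₁ V₂ with hF
  set E : Subgroup G := NN v₂ V₁ ⊓ MulAut.conj l2 • NN v₂ V₁ with hE
  have hFE : MulAut.conj s • F = E := by
    rw [hF, hE, Side.conj_inf, conj_s hb]
    congr 1
    rw [← conj_s hb, conj_conj, conj_conj]
    apply S1.conj_N_eq
    have e1 : s * l * v₁ * (s * l)⁻¹ = s * (l * v₁ * l⁻¹) * s⁻¹ := by group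
    have e2 : l2 * s * v₁ * (l2 * s)⁻¹ = l2 * (s * v₁ * s⁻¹) * l2⁻¹ := by group
    rw [e1, e2, S1.l_v, h.sv1, S2.l_v]
  have hfrm := frm hb hv hQ hQ2 h32
  have hL2V : L₂ ≤ centralizer (V₁ : Set G) := fun l hl => mem_centralizer_iff.2 fun y hy => (h.L21 l hl y hy).symm
  have hvF : v₁ ∉ F := fun hcon => S1.v_not_mem hcon.2
  rcases hfrm.dich (F := F) (L := L₂) inf_le_left S1.W_le_F hvF hb.L2_le
    (hL2V.trans S1.centralizer_le_normalizer_F) h.L2 h.t2 with h1 | h1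
  · -- `F = V₂`, `E = V₁`
    have hEV : E = V₁ := by rw [← hFE, h1, conj_V2 hb]
    have hCN : centralizer (NN v₁ V₂ : Set G) ≤ normalizer (V₁ : Set G) := by
      rw [← hEV]
      exact (centralizer_le (V2_le_NN v₁ V₂)).trans S2.centralizer_le_normalizer_F
    have hc4 : Nat.card F = 4 := by rw [h1, h.card2]
    by_cases hc : MulAut.conj l • NN v₁ V₂ ≤ centralizer (NN v₁ V₂ : Set G)
    · have := S1.card_le hc hCN
      rw [← hF] at this
      omega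
    · have halt : Alt (NN v₁ V₂) (MulAut.conj l • NN v₁ V₂) V₂ v₁ Q := {
        ab := hfrm.ab
        ab' := fun x hx y hy => by
          rw [mem_conj] at hx hy
          have h3 := hfrm.ab _ hx _ hy
          have h4 := congrArg (fun t => l * t * l⁻¹) h3
          simpa [mul_assoc] using h4
        sq := hfrm.sq
        WN := hfrm.WN
        WN' := S1.W_le_N'
        vN := hv
        v1 := h.v1
        vN' := fun b hb' => (mem_centralizer_iff.1 (S1.N'_V hb') v₁ h.vV1).symm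
        cm := fun x hx b hb' => by
          have := S1.comm_mem hx hb'
          rw [← hF, h1] at this
          exact this
        add := hQ.add
        inv := fun b hb' x hx => hQ.inv b (S1.centralizer_V_le (S1.N'_V hb')) x hx
        Qv := hQ.Qv
        rad := hQ.rad
        QW := hfrm.QW
        perp := hfrm.perp
        W4 := fun a ha b hb ha1 hb1 hab x hx =>
          four_mem h.card2 (fun y hy => h.q2 y hy) ha hb ha1 hb1 hab hx }
      have c1 := halt.card_le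
      have c2 := halt.card_cent_le hc
      have c3 := S1.card_cent
      have c4 : Nat.card (MulAut.conj l • NN v₁ V₂ : Subgroup G) = 32 := by rw [Side.card_conj, h32]
      have c5 := h.card2
      omega
  · -- `N₁ = F⟨v₁⟩`, `N₂ = E⟨v₂⟩`
    apply hB
    have h2 : ∀ y ∈ NN v₂ V₁, y ∈ E ∨ y * v₂ ∈ E := by
      intro y hy
      rw [← conj_s hb, mem_conj] at hy
      rcases h1 _ hy with h3 | h3
      · left
        rw [← hFE, mem_conj]
        exact h3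
      · right
        rw [← hFE, mem_conj]
        have e : s⁻¹ * (y * v₂) * s = s⁻¹ * y * s * v₁ := by
          have e2 : s⁻¹ * v₂ * s = v₁ := by rw [← h.sv1]; group
          calc s⁻¹ * (y * v₂) * s = (s⁻¹ * y * s) * (s⁻¹ * v₂ * s) := by group
            _ = s⁻¹ * y * s * v₁ := by rw [e2]
        rw [e]
        exact h3
    -- `E ∩ F = 1`
    have hEF : F ⊓ E = ⊥ := by
      by_contra hne
      have hT : T ≤ normalizer ((F ⊓ E : Subgroup G) : Set G) := by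
        intro t ht
        apply mem_normalizer_of_conj
        rw [Side.conj_inf, S1.conj_F (hb.T_le ht) (h.T1 t ht _ hv'), S2.conj_F (hb.T_le2 ht) (h.T2 t ht _ hv2')]
      obtain ⟨x, hx, hx1, hxT⟩ := NoFF.LinesPlug.exists_fixed h.pT
        ((inf_le_left.trans inf_le_left).trans ((NN_le_o2 hb).trans hNT)) hT hne
      have hxF : x ∈ F := hx.1
      have hxE : x ∈ E := hx.2
      rcases h.fix x (hNT (NN_le_o2 hb hxF.1)) (NN_sq hb x hxF.1) hxT with h3 | h3 | h3 | h3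
      · exact hx1 h3
      · exact S1.v_not_mem (h3 ▸ hxF.2)
      · exact S2.v_not_mem (h3 ▸ hxE.2)
      · -- `l2 w2 l2⁻¹` centralises `E ∋ v₁v₂`, `v₁` and moves `v₂`
        have h4 : l2 * w2 * l2⁻¹ ∈ centralizer (E : Set G) := centralizer_le (fun y hy => hy.2) S2.w'_N'
        have h5 := SpSide.fix h4 hxE
        have h6 := SpSide.fix h4 (S2.W_le_F h.vV1)
        rw [h3] at h5
        have h7 := S2.w'_v
        have h8 : l2 * w2 * l2⁻¹ * (v₁ * v₂) * (l2 * w2 * l2⁻¹)⁻¹ =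
            (l2 * w2 * l2⁻¹ * v₁ * (l2 * w2 * l2⁻¹)⁻¹) * (l2 * w2 * l2⁻¹ * v₂ * (l2 * w2 * l2⁻¹)⁻¹) := by group
        rw [h8, h6, h7] at h5
        have h9 := mul_left_cancel h5
        exact hv2'1 (mul_eq_left.1 h9)
    -- `[F, E] = 1`
    have hFEc : ∀ x ∈ F, ∀ y ∈ E, x * y = y * x := by
      intro x hx y hy
      have hxE : x ∈ normalizer (E : Set G) := by
        apply S2.centralizer_le_normalizer_F
        exact centralizer_le h.half1 (NN_le_cent hb hx.1)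
      have hyF : y ∈ normalizer (F : Set G) := by
        apply S1.centralizer_le_normalizer_F
        exact centralizer_le h.half2 (NN_le_cent hb.symm hy.1)
      have h3 : x * y * x⁻¹ * y⁻¹ ∈ F ⊓ E := by
        refine ⟨?_, E.mul_mem ((mem_normalizer_iff.1 hxE y).1 hy) (E.inv_mem hy)⟩
        have h4 := F.mul_mem hx ((mem_normalizer_iff.1 hyF x⁻¹).1 (F.inv_mem hx))
        have e : x * y * x⁻¹ * y⁻¹ = x * (y * x⁻¹ * y⁻¹) := by group
        rw [e]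
        exact h4
      rw [hEF, mem_bot] at h3
      rw [mul_inv_eq_one, mul_inv_eq_iff_eq_mul] at h3
      exact h3
    -- `v₁`, `v₂` are central in `N₁N₂`
    have c11 : ∀ x ∈ NN v₁ V₂, x * v₁ = v₁ * x := fun x hx => hfrm.ab x hx v₁ hv
    have c12 : ∀ x ∈ NN v₁ V₂, x * v₂ = v₂ * x := fun x hx => mem_cz.1 (NN_le_cz2 hb hx)
    have c21 : ∀ y ∈ NN v₂ V₁, y * v₁ = v₁ * y := fun y hy => mem_cz.1 (NN_le_cz2 hb.symm hy)
    have c22 : ∀ y ∈ NN v₂ V₁, y * v₂ = v₂ * y := fun y hy => (mem_centralizer_iff.1 (NN_comm hb.symm hy) v₂ hv2).symm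
    have key : ∀ x ∈ NN v₁ V₂, ∀ y ∈ E, x * y = y * x := by
      intro x hx y hy
      rcases h1 x hx with h3 | h3
      · exact hFEc x h3 y hy
      · have h4 := hFEc _ h3 y hy
        have h5 : x * y * v₁ = y * x * v₁ := by
          calc x * y * v₁ = x * (y * v₁) := by group
            _ = x * v₁ * y := by rw [c21 y hy.1]; group
            _ = y * x * v₁ := by rw [h4]; group
        exact mul_right_cancel h5
    intro x hx
    rw [mem_centralizer_iff]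
    intro y hy
    rcases h2 y hy with h3 | h3
    · exact (key x hx y h3).symm
    · have h4 := key x hx _ h3
      have h5 : y * x * v₂ = x * y * v₂ := by
        calc y * x * v₂ = y * (x * v₂) := by group
          _ = y * v₂ * x := by rw [c12 x hx]; group
          _ = x * y * v₂ := by rw [← h4]; group
      exact mul_right_cancel h5

/-- **KILL OF `Sp₄(2)`**, final form: `One`, case B, `|N₁| = 32` and a `C₁`-invariant quadratic form on `N₁` with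
radical `⟨v₁⟩`, `Q(v₁) = 1`, `Q(v₂) = 0`. -/
theorem false_of [Finite G] (h : One T V₁ V₂ L₁ L₂ v₁ v₂ s) (hB : ¬ nc v₁ {v₂} ≤ centralizer (nc v₂ {v₁} : Set G))
    {Q : G → ZMod 2} (hQ : QF (nc v₁ {v₂}) (cz v₁) v₁ Q) (hQ2 : Q v₂ = 0) (h32 : Nat.card (nc v₁ {v₂}) = 32) : False := by
  have hb := h.toBase
  rw [hb.N1_eq] at hQ h32 hB
  rw [hb.symm.N1_eq] at hB
  exact kill h hb.Q_le hb.V1_le_Q hb.Kk_le_Q hB hQ hQ2 h32

end

end Cfsg.Agent.Omega.IId.SpKill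

end

section


/-!
# II.d, CASE 1, `q = 2`: KILL OF `Sp₄(2)` from the orthogonal structure `GOrth` (helper304)
-/

set_option autoImplicit false

namespace Cfsg.Agent.Omega.IId.SpPlug

open Subgroup Cfsg Cfsg.Agent.ZN Cfsg.Agent.Omega.IId.SpForm Cfsg.Agent.Omega.IId.One Cfsg.Agent.Omega.TV

universe u

variable {G : Type u} [Group G]

theorem pol_eq {C : Subgroup G} {r x y : G} : pol (Qg C r) x y = Bg C r x y := rfl

/-- `GOrth` gives `QF`. -/
theorem qf {C N : Subgroup G} {r c : G} (h : GOrth C N r c) : QF N C c (Qg C r) where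
  add := fun x hx y hy z hz => h.add_left hx hy hz
  inv := h.inv
  Qv := h.Qc
  vrad := h.Bc
  rad := h.rad

/-- **KILL OF `Sp₄(2)`**: `One`, case B, `GOrth`, `|N₁| = 32`. -/
theorem false_of [Finite G] {T V₁ V₂ L₁ L₂ : Subgroup G} {v₁ v₂ s : G} (h : One T V₁ V₂ L₁ L₂ v₁ v₂ s)
    (hB : ¬ nc v₁ {v₂} ≤ centralizer (nc v₂ {v₁} : Set G)) (hO : GOrth (cz v₁) (nc v₁ {v₂}) v₂ v₁)
    (h32 : Nat.card (nc v₁ {v₂}) = 32) : False :=
  SpKill.false_of h hB (qf hO) Qg_self h32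

end Cfsg.Agent.Omega.IId.SpPlug

end

end

-- merged: Cfsg.Agent.Mrg.Omega.IId.PlaneOf
section

section


/-!
# II.d, CASE 1, `q = 2`: DIAGRAM + IDENTITY (bb OMEGA #15930)

helper310.  `One`, `[N₁, N₂] ≠ 1` : `|N₁| = 2⁷`, `R = [N₁, N₁^l]` is a totally singular plane of `N₁`
containing `V₂`, equal to the set of singular vectors of `C_{N₁}(N₁^l)`.
-/

set_option autoImplicit false
set_option linter.unusedSectionVars false
set_option linter.unusedVariables false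

namespace Cfsg.Agent.Omega.IId.PlaneOf

open Cfsg.Agent.Omega.TV hiding z2
open Subgroup Cfsg Cfsg.Agent.ZN Cfsg.Agent.Omega.IId.PlaneSy Cfsg.Agent.Omega.IId.PlaneRk
open Cfsg.Agent.Omega.IId.PlaneF
open Cfsg.Agent.Omega.IId.One Cfsg.Agent.Omega.IId.SpSide
open Cfsg.Agent.Omega.NoFF.Basic
open Cfsg.Agent.Omega.IId.SpKill (NN V2_le_NN NN_le_o2 NN_le_cent NN_comm NN_sq NN_le_cz2 conj_V2 conj_s exists_side)
open Cfsg.Agent.Omega.IId.SpForm (two_mul_card_le four_mem)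
open scoped Pointwise commutatorElement

universe u

variable {G : Type u} [Group G]

section side

variable {V W N : Subgroup G} {v v' w l : G} (S : Side V W N v v' w l)
include S

/-- an element of `C_G(v)` normalising `V` maps `N'` to `N'` or `N''` -/
theorem conj_N' {t : G} (ht : t ∈ centralizer ({v} : Set G)) (htV : t * v' * t⁻¹ ∈ V) :
    MulAut.conj t • (MulAut.conj l • N) = MulAut.conj l • N ∨
      MulAut.conj t • (MulAut.conj l • N) = MulAut.conj w • (MulAut.conj l • N) := by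
  have h0 : t * v = v * t := mem_centralizer_singleton.1 ht
  rw [conj_conj]
  have e : t * l * v * (t * l)⁻¹ = t * v' * t⁻¹ := by rw [← S.l_v]; group
  rcases (S.memV _).1 htV with h2 | h2 | h2 | h2
  · exfalso
    apply S.v'1
    calc v' = t⁻¹ * (t * v' * t⁻¹) * t := by group
      _ = 1 := by rw [h2]; group
  · exfalso
    apply S.ne
    calc v = t⁻¹ * (v * t) := by rw [← h0]; group
      _ = t⁻¹ * (t * v' * t⁻¹) * t := by rw [h2]; group
      _ = v' := by group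
  · left
    apply S.conj_N_eq
    rw [e, h2, S.l_v]
  · right
    rw [conj_conj]
    apply S.conj_N_eq
    have e2 : w * l * v * (w * l)⁻¹ = w * (l * v * l⁻¹) * w⁻¹ := by group
    rw [e, h2, e2, S.l_v, S.w_v']

/-- `R = [N, N'] ≤ N ∩ N'` -/
theorem R_le : ⁅N, MulAut.conj l • N⁆ ≤ N ⊓ MulAut.conj l • N :=
  le_inf (le_normalizer_iff_commutator_le_left.1 S.N'_le_normalizer)
    (le_normalizer_iff_commutator_le_right.1 S.N_le_normalizer)

/-- `N_{C_G(v)}(V)` normalises `R`. -/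
theorem conj_R {t : G} (ht : t ∈ centralizer ({v} : Set G)) (htV : t * v' * t⁻¹ ∈ V) :
    MulAut.conj t • ⁅N, MulAut.conj l • N⁆ = ⁅N, MulAut.conj l • N⁆ := by
  have h1 : MulAut.conj t • ⁅N, MulAut.conj l • N⁆ = ⁅MulAut.conj t • N, MulAut.conj t • (MulAut.conj l • N)⁆ :=
    Subgroup.map_commutator _ _ _
  have h2 : MulAut.conj t • N = N := conj_eq (S.nor ht)
  rw [h1, h2]
  rcases conj_N' S ht htV with h3 | h3
  · rw [h3]
  · rw [h3]
    have h4 : MulAut.conj w • ⁅N, MulAut.conj l • N⁆ = ⁅MulAut.conj w • N, MulAut.conj w • (MulAut.conj l • N)⁆ :=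
      Subgroup.map_commutator _ _ _
    rw [conj_eq_of_centralizer S.w_N] at h4
    rw [← h4]
    exact conj_eq_of_centralizer (centralizer_le ((R_le S).trans inf_le_left) S.w_N)

end side

section

variable [Finite G] {T V₁ V₂ L₁ L₂ : Subgroup G} {v₁ v₂ s : G}

/-- the index of `F` in `N₁` is not 2 -/
theorem not_index_two (h : One T V₁ V₂ L₁ L₂ v₁ v₂ s) (hB : ¬ NN v₁ V₂ ≤ centralizer (NN v₂ V₁ : Set G))
    (hv : v₁ ∈ NN v₁ V₂) {v' w l : G} (S1 : Side V₁ V₂ (NN v₁ V₂) v₁ v' w l) {w2 l2 : G}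
    (S2 : Side V₂ V₁ (NN v₂ V₁) v₂ (s * v' * s⁻¹) w2 l2)
    (h1 : ∀ x ∈ NN v₁ V₂, x ∈ NN v₁ V₂ ⊓ MulAut.conj l • NN v₁ V₂ ∨
      x * v₁ ∈ NN v₁ V₂ ⊓ MulAut.conj l • NN v₁ V₂) : False := by
  have hb := h.toBase
  have hNT := hb.Q_le
  have hv2 : v₂ ∈ NN v₂ V₁ := by
    rw [← conj_s hb, ← h.sv1]
    exact SpSide.conj_mem hv
  have hv' : v' ∈ V₁ := S1.v'V
  have hv2' : s * v' * s⁻¹ ∈ V₂ := h.s1 v' hv'
  have hv2'1 := S2.v'1
  set F : Subgroup G := NN v₁ V₂ ⊓ MulAut.conj l • NN v₁ V₂ with hF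
  set E : Subgroup G := NN v₂ V₁ ⊓ MulAut.conj l2 • NN v₂ V₁ with hE
  have hFE : MulAut.conj s • F = E := by
    rw [hF, hE, Side.conj_inf, conj_s hb]
    congr 1
    rw [← conj_s hb, conj_conj, conj_conj]
    apply S1.conj_N_eq
    have e1 : s * l * v₁ * (s * l)⁻¹ = s * (l * v₁ * l⁻¹) * s⁻¹ := by group
    have e2 : l2 * s * v₁ * (l2 * s)⁻¹ = l2 * (s * v₁ * s⁻¹) * l2⁻¹ := by group
    rw [e1, e2, S1.l_v, h.sv1, S2.l_v]
  apply hB
  have h2 : ∀ y ∈ NN v₂ V₁, y ∈ E ∨ y * v₂ ∈ E := by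
    intro y hy
    rw [← conj_s hb, mem_conj] at hy
    rcases h1 _ hy with h3 | h3
    · left
      rw [← hFE, mem_conj]
      exact h3
    · right
      rw [← hFE, mem_conj]
      have e : s⁻¹ * (y * v₂) * s = s⁻¹ * y * s * v₁ := by
        have e2 : s⁻¹ * v₂ * s = v₁ := by rw [← h.sv1]; group
        calc s⁻¹ * (y * v₂) * s = (s⁻¹ * y * s) * (s⁻¹ * v₂ * s) := by group
          _ = s⁻¹ * y * s * v₁ := by rw [e2]
      rw [e]
      exact h3
  -- `E ∩ F = 1`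
  have hEF : F ⊓ E = ⊥ := by
    by_contra hne
    have hT : T ≤ normalizer ((F ⊓ E : Subgroup G) : Set G) := by
      intro t ht
      apply mem_normalizer_of_conj
      rw [Side.conj_inf, S1.conj_F (hb.T_le ht) (h.T1 t ht _ hv'), S2.conj_F (hb.T_le2 ht) (h.T2 t ht _ hv2')]
    obtain ⟨x, hx, hx1, hxT⟩ := NoFF.LinesPlug.exists_fixed h.pT
      ((inf_le_left.trans inf_le_left).trans ((NN_le_o2 hb).trans hNT)) hT hne
    have hxF : x ∈ F := hx.1
    have hxE : x ∈ E := hx.2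
    rcases h.fix x (hNT (NN_le_o2 hb hxF.1)) (NN_sq hb x hxF.1) hxT with h3 | h3 | h3 | h3
    · exact hx1 h3
    · exact S1.v_not_mem (h3 ▸ hxF.2)
    · exact S2.v_not_mem (h3 ▸ hxE.2)
    · -- `l2 w2 l2⁻¹` centralises `E ∋ v₁v₂`, `v₁` and moves `v₂`
      have h4 : l2 * w2 * l2⁻¹ ∈ centralizer (E : Set G) := centralizer_le (fun y hy => hy.2) S2.w'_N'
      have h5 := SpSide.fix h4 hxE
      have h6 := SpSide.fix h4 (S2.W_le_F h.vV1)
      rw [h3] at h5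
      have h7 := S2.w'_v
      have h8 : l2 * w2 * l2⁻¹ * (v₁ * v₂) * (l2 * w2 * l2⁻¹)⁻¹ =
          (l2 * w2 * l2⁻¹ * v₁ * (l2 * w2 * l2⁻¹)⁻¹) * (l2 * w2 * l2⁻¹ * v₂ * (l2 * w2 * l2⁻¹)⁻¹) := by group
      rw [h8, h6, h7] at h5
      have h9 := mul_left_cancel h5
      exact hv2'1 (mul_eq_left.1 h9)
  -- `[F, E] = 1`
  have hFEc : ∀ x ∈ F, ∀ y ∈ E, x * y = y * x := by
    intro x hx y hy
    have hxE : x ∈ normalizer (E : Set G) := by
      apply S2.centralizer_le_normalizer_F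
      exact centralizer_le h.half1 (NN_le_cent hb hx.1)
    have hyF : y ∈ normalizer (F : Set G) := by
      apply S1.centralizer_le_normalizer_F
      exact centralizer_le h.half2 (NN_le_cent hb.symm hy.1)
    have h3 : x * y * x⁻¹ * y⁻¹ ∈ F ⊓ E := by
      refine ⟨?_, E.mul_mem ((mem_normalizer_iff.1 hxE y).1 hy) (E.inv_mem hy)⟩
      have h4 := F.mul_mem hx ((mem_normalizer_iff.1 hyF x⁻¹).1 (F.inv_mem hx))
      have e : x * y * x⁻¹ * y⁻¹ = x * (y * x⁻¹ * y⁻¹) := by group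
      rw [e]
      exact h4
    rw [hEF, mem_bot] at h3
    rw [mul_inv_eq_one, mul_inv_eq_iff_eq_mul] at h3
    exact h3
  -- `v₁`, `v₂` are central in `N₁N₂`
  have c11 : ∀ x ∈ NN v₁ V₂, x * v₁ = v₁ * x := fun x hx =>
    (mem_centralizer_iff.1 (NN_comm hb hx) v₁ hv).symm
  have c12 : ∀ x ∈ NN v₁ V₂, x * v₂ = v₂ * x := fun x hx => mem_cz.1 (NN_le_cz2 hb hx)
  have c21 : ∀ y ∈ NN v₂ V₁, y * v₁ = v₁ * y := fun y hy => mem_cz.1 (NN_le_cz2 hb.symm hy)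
  have c22 : ∀ y ∈ NN v₂ V₁, y * v₂ = v₂ * y := fun y hy => (mem_centralizer_iff.1 (NN_comm hb.symm hy) v₂ hv2).symm
  have key : ∀ x ∈ NN v₁ V₂, ∀ y ∈ E, x * y = y * x := by
    intro x hx y hy
    rcases h1 x hx with h3 | h3
    · exact hFEc x h3 y hy
    · have h4 := hFEc _ h3 y hy
      have h5 : x * y * v₁ = y * x * v₁ := by
        calc x * y * v₁ = x * (y * v₁) := by group
          _ = x * v₁ * y := by rw [c21 y hy.1]; group
          _ = y * x * v₁ := by rw [h4]; group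
      exact mul_right_cancel h5
  intro x hx
  rw [mem_centralizer_iff]
  intro y hy
  rcases h2 y hy with h3 | h3
  · exact (key x hx y h3).symm
  · have h4 := key x hx _ h3
    have h5 : y * x * v₂ = x * y * v₂ := by
      calc y * x * v₂ = y * (x * v₂) := by group
        _ = y * v₂ * x := by rw [c12 x hx]; group
        _ = x * y * v₂ := by rw [← h4]; group
    exact mul_right_cancel h5

end

/-! ### The form and `N'` -/

section form

variable {C V W N : Subgroup G} {v r v' w l : G} (S : Side V W N v v' w l) (o : GOrth C N r v)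
  (hC : centralizer ({v} : Set G) ≤ C)
include S o hC

theorem N'_C : MulAut.conj l • N ≤ C := (S.N'_V.trans S.centralizer_V_le).trans hC

/-- `C_N(N') ⊥ R` -/
theorem perp_R {x : G} (hx : x ∈ N) (hxc : ∀ y ∈ MulAut.conj l • N, y * x * y⁻¹ = x) :
    ∀ t ∈ ⁅N, MulAut.conj l • N⁆, Bg C r x t = 0 := by
  have hs := sy_of o
  have hle : ⁅N, MulAut.conj l • N⁆ ≤ hs.pp hx := by
    rw [Subgroup.commutator_le]
    intro n hn y hy
    have hyC := N'_C S o hC hy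
    have h1 : y * n⁻¹ * y⁻¹ ∈ N := o.nor y hyC _ (inv_mem hn)
    have e : ⁅n, y⁆ = n * (y * n⁻¹ * y⁻¹) := by rw [commutatorElement_def]; group
    refine ⟨by rw [e]; exact mul_mem hn h1, ?_⟩
    rw [e, o.add x hx n hn _ h1]
    nth_rewrite 2 [← hxc y hy]
    rw [o.B_inv hyC hx (inv_mem hn), hs.iv hn, z2_self]
  exact fun t ht => (hle ht).2

/-- `C_N(N') = R^⊥` -/
theorem cent_of_perp {x : G} (hx : x ∈ N) (hxp : ∀ t ∈ ⁅N, MulAut.conj l • N⁆, Bg C r x t = 0) :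
    ∀ y ∈ MulAut.conj l • N, y * x * y⁻¹ = x := by
  have hs := sy_of o
  intro y hy
  have hyC := N'_C S o hC hy
  have hR := R_le S
  -- `x⁻¹(y x y⁻¹)` is orthogonal to `N`
  have h1 : ⁅y, x⁆ ∈ ⁅N, MulAut.conj l • N⁆ := by
    have h2 : ⁅x, y⁆ ∈ ⁅N, MulAut.conj l • N⁆ := commutator_mem_commutator hx hy
    rw [← commutatorElement_inv] 
    exact inv_mem h2
  have h2 : ∀ n ∈ N, Bg C r ⁅y, x⁆ n = 0 := by
    intro n hn
    have e : ⁅y, x⁆ = (y * x * y⁻¹) * x⁻¹ := by rw [commutatorElement_def]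
    have hyx := o.nor y hyC x hx
    rw [e, o.add_left hyx (inv_mem hx) hn, hs.iv hx, hs.inv_left hyC hx hn]
    have hyn := hs.nor' hyC hn
    have e3 : y⁻¹ * n * y = (y⁻¹ * n * y * n⁻¹) * n := by group
    have h4 : y⁻¹ * n * y * n⁻¹ ∈ ⁅N, MulAut.conj l • N⁆ := by
      have h5 : ⁅n, y⁻¹⁆ ∈ ⁅N, MulAut.conj l • N⁆ := commutator_mem_commutator hn (inv_mem hy)
      have h6 := inv_mem h5
      have e6 : (⁅n, y⁻¹⁆)⁻¹ = y⁻¹ * n * y * n⁻¹ := by rw [commutatorElement_def]; group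
      rwa [e6] at h6
    rw [e3, o.add x hx _ (hR h4).1 n hn, hxp _ h4, zero_add, z2_self]
  rcases o.rad _ (hR h1).1 h2 with h3 | h3
  · rw [commutatorElement_def, mul_inv_eq_one] at h3
    exact h3
  · exact absurd (h3 ▸ (hR h1).2) S.v_not_mem

theorem R_iso : ∀ x ∈ ⁅N, MulAut.conj l • N⁆, ∀ y ∈ ⁅N, MulAut.conj l • N⁆, Bg C r x y = 0 := by
  intro x hx
  have hR := R_le S
  refine perp_R S o hC (hR hx).1 fun y hy => ?_
  have hx' : x ∈ MulAut.conj l • N := (hR hx).2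
  rw [mem_conj] at hy hx'
  have h1 := (sy_of o).mc hy hx'
  have h2 := congrArg (fun t => l * t * l⁻¹) h1
  have e1 : l * (l⁻¹ * y * l * (l⁻¹ * x * l)) * l⁻¹ = y * x := by group
  have e2 : l * (l⁻¹ * x * l * (l⁻¹ * y * l)) * l⁻¹ = x * y := by group
  rw [e1, e2] at h2
  rw [h2]; group

/-- `|R| ≠ 4`: the alternating argument -/
theorem card_R_ne [Finite G] (hR4 : Nat.card (⁅N, MulAut.conj l • N⁆ : Subgroup G) = 4)
    (hQ : ∀ x ∈ ⁅N, MulAut.conj l • N⁆, Qg C r x = 0) : False := by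
  have hs := sy_of o
  have hR := R_le S
  set R := ⁅N, MulAut.conj l • N⁆ with hRdef
  have hRN : R ≤ N := hR.trans inf_le_left
  have hvv := S.vv
  -- a basis of `R`
  obtain ⟨a, ha, ha1⟩ : ∃ a ∈ R, a ≠ 1 := by
    by_contra hcon
    push Not at hcon
    have h1 : R ≤ ⊥ := fun x hx => by rw [mem_bot]; exact hcon x hx
    have h2 := Subgroup.card_le_of_le h1
    rw [Subgroup.card_bot] at h2
    omega
  obtain ⟨b, hb, hb1, hba⟩ : ∃ b ∈ R, b ≠ 1 ∧ b ≠ a := by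
    by_contra hcon
    push Not at hcon
    have h1 : R ≤ zpowers a := fun x hx => by
      by_cases hx1 : x = 1
      · rw [hx1]; exact one_mem _
      · rw [hcon x hx hx1]; exact mem_zpowers _
    have h2 := Subgroup.card_le_of_le h1
    rw [Nat.card_zpowers] at h2
    have h3 : orderOf a ≤ 2 := orderOf_le_of_pow_eq_one (by norm_num) (by rw [pow_two, o.sq a (hRN ha)])
    omega
  have hmem : ∀ x ∈ R, x = 1 ∨ x = a ∨ x = b ∨ x = a * b := fun x hx =>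
    four_mem hR4 (fun y hy => o.sq y (hRN hy)) ha hb ha1 hb1 (Ne.symm hba) hx
  have vR : v ∉ R := fun e => S.v_not_mem (hR e).2
  have nz : ∀ t ∈ R, t ≠ 1 → t ∉ zpowers v := fun t ht ht1 e => by
    rcases (mem_zp2 hvv).1 e with h1 | h1
    · exact ht1 h1
    · exact vR (h1 ▸ ht)
  have hab1 : a * b ≠ 1 := fun e => hba (by
    calc b = a * (a * b) := by rw [← mul_assoc, o.sq a (hRN ha), one_mul]
      _ = a := by rw [e, mul_one])
  have haN := hRN ha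
  have hbN := hRN hb
  have nab := nz _ (mul_mem ha hb) hab1
  -- dual basis
  obtain ⟨x, hx, ax, bx⟩ := hs.sep2 haN hbN (nz a ha ha1) nab
  obtain ⟨y, hy, byy, ay⟩ := hs.sep2 hbN haN (nz b hb hb1) (by rwa [hs.mc hbN haN])
  -- `β_c(n) = n⁻¹ (c n c⁻¹)`
  have hcR : ∀ n ∈ N, ∀ c ∈ MulAut.conj l • N, n⁻¹ * (c * n * c⁻¹) ∈ R := by
    intro n hn c hc
    have h5 : ⁅n⁻¹, c⁆ ∈ ⁅N, MulAut.conj l • N⁆ := commutator_mem_commutator (inv_mem hn) hc
    have e : ⁅n⁻¹, c⁆ = n⁻¹ * (c * n * c⁻¹) := by rw [commutatorElement_def]; group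
    rwa [e] at h5
  have hCc : ∀ c ∈ MulAut.conj l • N, c ∈ C := fun c hc => N'_C S o hC hc
  have hself : ∀ n ∈ N, ∀ c ∈ MulAut.conj l • N, Bg C r n (n⁻¹ * (c * n * c⁻¹)) = 0 := by
    intro n hn c hc
    unfold Bg
    rw [mul_inv_cancel_left, o.inv c (hCc c hc) n hn, hQ _ (hcR n hn c hc), add_zero, z2_self]
  have hsymm : ∀ n ∈ N, ∀ n' ∈ N, ∀ c ∈ MulAut.conj l • N,
      Bg C r n (n'⁻¹ * (c * n' * c⁻¹)) = Bg C r n' (n⁻¹ * (c * n * c⁻¹)) := by
    intro n hn n' hn' c hc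
    have h1 := hself (n * n') (mul_mem hn hn') c hc
    have e : (n * n')⁻¹ * (c * (n * n') * c⁻¹) = (n⁻¹ * (c * n * c⁻¹)) * (n'⁻¹ * (c * n' * c⁻¹)) := by
      have h2 : (n * n')⁻¹ * (c * (n * n') * c⁻¹) = n'⁻¹ * (n⁻¹ * (c * n * c⁻¹)) * (c * n' * c⁻¹) := by group
      rw [h2, hs.mc (inv_mem hn') (hRN (hcR n hn c hc)), mul_assoc]
    rw [e] at h1
    have p1 := hRN (hcR n hn c hc)
    have p2 := hRN (hcR n' hn' c hc)
    rw [o.add _ (mul_mem hn hn') _ p1 _ p2, o.add_left hn hn' p1, o.add_left hn hn' p2, hself n hn c hc,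
      hself n' hn' c hc, zero_add, add_zero] at h1
    rcases z2 (Bg C r n (n'⁻¹ * (c * n' * c⁻¹))) with h2 | h2 <;>
      rcases z2 (Bg C r n' (n⁻¹ * (c * n * c⁻¹))) with h3 | h3
    · rw [h2, h3]
    · rw [h2, h3] at h1; exact absurd h1 (by decide)
    · rw [h2, h3] at h1; exact absurd h1 (by decide)
    · rw [h2, h3]
  -- an element of `R` orthogonal to `x` and `y` is 1
  have hxyR : ∀ t ∈ R, Bg C r x t = 0 → Bg C r y t = 0 → t = 1 := by
    intro t ht h1 h2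
    rw [o.comm _ haN _ hx] at ax
    rw [o.comm _ hbN _ hx] at bx
    rw [o.comm _ hbN _ hy] at byy
    rw [o.comm _ haN _ hy] at ay
    rcases hmem t ht with h3 | h3 | h3 | h3
    · exact h3
    · rw [h3, ax] at h1; exact absurd h1 (by decide)
    · rw [h3, byy] at h2; exact absurd h2 (by decide)
    · rw [h3, o.add x hx a haN b hbN, ax, bx] at h1; exact absurd h1 (by decide)
  -- `Z = R^⊥`
  have hZ : ∀ n ∈ N, Bg C r a n = 0 → Bg C r b n = 0 → ∀ c ∈ MulAut.conj l • N, c * n * c⁻¹ = n := by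
    intro n hn h1 h2
    refine cent_of_perp S o hC hn fun t ht => ?_
    rw [o.comm _ hn _ (hRN ht)]
    rcases hmem t ht with rfl | rfl | rfl | rfl
    · rw [o.comm _ N.one_mem _ hn]; exact GOrth.Bone
    · exact h1
    · exact h2
    · rw [o.add_left haN hbN hn, h1, h2, add_zero]
  -- if `f_c = 0` then `c` centralises `N`
  have hf0 : ∀ c ∈ MulAut.conj l • N, Bg C r x (y⁻¹ * (c * y * c⁻¹)) = 0 → c ∈ centralizer (N : Set G) := by
    intro c hc h0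
    have hy1 : y⁻¹ * (c * y * c⁻¹) = 1 := hxyR _ (hcR y hy c hc) h0 (hself y hy c hc)
    have hx1 : x⁻¹ * (c * x * c⁻¹) = 1 := hxyR _ (hcR x hx c hc) (hself x hx c hc)
      (by rw [hsymm y hy x hx c hc]; exact h0)
    have hy2 : c * y * c⁻¹ = y := (inv_mul_eq_one.1 hy1).symm
    have hx2 : c * x * c⁻¹ = x := (inv_mul_eq_one.1 hx1).symm
    rw [mem_centralizer_iff]
    intro n hn
    -- `n = z x^i y^j`
    have step : ∀ m ∈ N, Bg C r a m = 0 → c * m * c⁻¹ = m := by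
      intro m hm h1
      rcases z2 (Bg C r b m) with h2 | h2
      · exact hZ m hm h1 h2 c hc
      · have h3 := hZ (m * y) (mul_mem hm hy) (by rw [o.add a haN m hm y hy, h1, ay, add_zero])
          (by rw [o.add b hbN m hm y hy, h2, byy]; decide) c hc
        have e : c * (m * y) * c⁻¹ = c * m * c⁻¹ * (c * y * c⁻¹) := by group
        rw [e, hy2] at h3
        exact mul_right_cancel h3
    have h4 : c * n * c⁻¹ = n := by
      rcases z2 (Bg C r a n) with h1 | h1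
      · exact step n hn h1
      · have h3 := step (n * x) (mul_mem hn hx) (by rw [o.add a haN n hn x hx, h1, ax]; decide)
        have e : c * (n * x) * c⁻¹ = c * n * c⁻¹ * (c * x * c⁻¹) := by group
        rw [e, hx2] at h3
        exact mul_right_cancel h3
    exact (mul_inv_eq_iff_eq_mul.1 h4).symm
  -- `f` is additive
  have hN'ab : ∀ p ∈ MulAut.conj l • N, ∀ q ∈ MulAut.conj l • N, p * q = q * p := by
    intro p hp q hq
    rw [mem_conj] at hp hq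
    have h1 := hs.mc hp hq
    have h2 := congrArg (fun t => l * t * l⁻¹) h1
    simpa [mul_assoc] using h2
  have hadd : ∀ c ∈ MulAut.conj l • N, ∀ c' ∈ MulAut.conj l • N,
      Bg C r x (y⁻¹ * (c * c' * y * (c * c')⁻¹)) =
        Bg C r x (y⁻¹ * (c * y * c⁻¹)) + Bg C r x (y⁻¹ * (c' * y * c'⁻¹)) := by
    intro c hc c' hc'
    have p1 := hcR y hy c hc
    have p2 := hcR y hy c' hc'
    have e : y⁻¹ * (c * c' * y * (c * c')⁻¹) =
        (y⁻¹ * (c * y * c⁻¹)) * (c * (y⁻¹ * (c' * y * c'⁻¹)) * c⁻¹) := by group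
    have e2 : c * (y⁻¹ * (c' * y * c'⁻¹)) * c⁻¹ = y⁻¹ * (c' * y * c'⁻¹) := by
      rw [hN'ab c hc _ (hR p2).2, mul_inv_cancel_right]
    rw [e, e2, o.add x hx _ (hRN p1) _ (hRN p2)]
  -- `|N' : C_{N'}(N)| ≤ 2`
  have h1 : Nat.card (MulAut.conj l • N : Subgroup G) ≤
      2 * Nat.card (centralizer (N : Set G) ⊓ MulAut.conj l • N : Subgroup G) := by
    refine card_le_two_mul fun c hc c' hc' hcn hcn' => ?_
    have hc0 : Bg C r x (y⁻¹ * (c * y * c⁻¹)) = 1 := (z2 _).resolve_left fun e => hcn (hf0 c hc e)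
    have hc0' : Bg C r x (y⁻¹ * (c' * y * c'⁻¹)) = 1 := (z2 _).resolve_left fun e => hcn' (hf0 c' hc' e)
    refine hf0 _ (mul_mem (inv_mem hc) hc') ?_
    have h2 := hadd c hc (c⁻¹ * c') (mul_mem (inv_mem hc) hc')
    rw [mul_inv_cancel_left, hc0, hc0'] at h2
    rcases z2 (Bg C r x (y⁻¹ * (c⁻¹ * c' * y * (c⁻¹ * c')⁻¹))) with h3 | h3
    · exact h3
    · rw [h3] at h2; exact absurd h2 (by decide)
  -- `|N : C_N(N')| = 4`
  have a1 : Nat.card N = 2 * Nat.card (hs.pp haN) :=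
    card_ker (f := Bg C r a) (fun x hx y hy => o.add a haN x hx y hy) (fun x => Iff.rfl) ⟨x, hx, ax⟩
  have a2 : Nat.card (hs.pp haN) = 2 * Nat.card (hs.pp haN ⊓ hs.pp hbN : Subgroup G) :=
    card_ker (f := Bg C r b) (fun x hx y hy => o.add b hbN x hx.1 y hy.1)
      (fun x => ⟨fun hx => ⟨hx.1, hx.2.2⟩, fun hx => ⟨hx.1, hx.1.1, hx.2⟩⟩) ⟨y, ⟨hy, ay⟩, byy⟩
  have a3 : (hs.pp haN ⊓ hs.pp hbN : Subgroup G) =
      N ⊓ centralizer ((MulAut.conj l • N : Subgroup G) : Set G) := by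
    ext n
    constructor
    · rintro ⟨h2, h3⟩
      refine ⟨h2.1, mem_centralizer_iff.2 fun c hc => ?_⟩
      exact mul_inv_eq_iff_eq_mul.1 (hZ n h2.1 h2.2 h3.2 c hc)
    · rintro ⟨h2, h3⟩
      have h4 := perp_R S o hC h2 fun c hc => by
        rw [mem_centralizer_iff.1 h3 c hc, mul_inv_cancel_right]
      exact ⟨⟨h2, by rw [o.comm _ haN _ h2]; exact h4 a ha⟩, ⟨h2, by rw [o.comm _ hbN _ h2]; exact h4 b hb⟩⟩
  have a4 := S.card_cent
  have a5 : Nat.card (MulAut.conj l • N : Subgroup G) = Nat.card N := Side.card_conj l N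
  rw [inf_comm] at h1
  rw [a3, a4] at a2
  have a6 : 0 < Nat.card ((MulAut.conj l • N) ⊓ centralizer (N : Set G) : Subgroup G) := Nat.card_pos
  omega

end form

/-! ### The theorem -/

/-- The plane `R = [N₁, N₁^l]`. -/
structure Plane (V₁ V₂ : Subgroup G) (v₁ v₂ v' w l : G) : Prop where
  side : Side V₁ V₂ (nc v₁ {v₂}) v₁ v' w l
  rk : Rk (cz v₁) (nc v₁ {v₂}) ⁅nc v₁ {v₂}, MulAut.conj l • nc v₁ {v₂}⁆ v₂ v₁
  V2R : V₂ ≤ ⁅nc v₁ {v₂}, MulAut.conj l • nc v₁ {v₂}⁆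
  four : 4 < Nat.card (⁅nc v₁ {v₂}, MulAut.conj l • nc v₁ {v₂}⁆ : Subgroup G)
  /-- `F₁` normalises `V₁` -/
  F1 : cz v₁ ⊓ centralizer (nc v₁ {v₂} : Set G) ≤ normalizer (V₁ : Set G)
  /-- `N_{C₁}(V₁)` normalises `R` -/
  nor : cz v₁ ⊓ normalizer (V₁ : Set G) ≤ normalizer ((⁅nc v₁ {v₂}, MulAut.conj l • nc v₁ {v₂}⁆ : Subgroup G) : Set G)

section main

variable [Finite G] {T V₁ V₂ L₁ L₂ : Subgroup G} {v₁ v₂ s : G}

/-- **DIAGRAM + IDENTITY** -/
theorem exists_plane (h : One T V₁ V₂ L₁ L₂ v₁ v₂ s)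
    (hI : ∃ x ∈ nc v₁ {v₂}, ∃ y ∈ nc v₂ {v₁}, x * y ≠ y * x) {v' : G} (hv' : v' ∈ V₁) (hv'1 : v' ≠ 1)
    (hv'v : v' ≠ v₁) : ∃ w, ∃ l ∈ L₁, Plane V₁ V₂ v₁ v₂ v' w l := by
  have hb := h.toBase
  have o₁ := h.orth hI
  have o₂ := h.symm.orth (One.hI_symm hI)
  have hv : v₁ ∈ NN v₁ V₂ := by
    have := h.v1_mem hI
    rwa [hb.N1_eq] at this
  have hv2 : v₂ ∈ NN v₂ V₁ := by
    have := h.symm.v1_mem (One.hI_symm hI)
    rwa [hb.symm.N1_eq] at this
  have hB : ¬ NN v₁ V₂ ≤ centralizer (NN v₂ V₁ : Set G) := by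
    intro hc
    obtain ⟨x, hx, y, hy, hne⟩ := hI
    rw [hb.N1_eq] at hx
    rw [hb.symm.N1_eq] at hy
    exact hne (mem_centralizer_iff.1 (hc hx) y hy).symm
  obtain ⟨w, l, hl, S1⟩ := exists_side h hb.V1_le_Q hb.Kk_le_Q hv hv' hv'1 hv'v
  have hv2' : s * v' * s⁻¹ ∈ V₂ := h.s1 v' hv'
  have hv2'1 : s * v' * s⁻¹ ≠ 1 := fun e => hv'1 (by
    calc v' = s⁻¹ * (s * v' * s⁻¹) * s := by group
      _ = 1 := by rw [e]; group)
  have hv2'v : s * v' * s⁻¹ ≠ v₂ := fun e => hv'v (by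
    calc v' = s⁻¹ * (s * v' * s⁻¹) * s := by group
      _ = s⁻¹ * (s * v₁ * s⁻¹) * s := by rw [e, h.sv1]
      _ = v₁ := by group)
  obtain ⟨w2, l2, hl2, S2⟩ := exists_side h.symm hb.symm.V1_le_Q hb.symm.Kk_le_Q hv2 hv2' hv2'1 hv2'v
  have S : Side V₁ V₂ (nc v₁ {v₂}) v₁ v' w l := by rw [hb.N1_eq]; exact S1
  have hF := F_le h o₂ o₁ hI S
  have hR := R_le S
  set R : Subgroup G := ⁅nc v₁ {v₂}, MulAut.conj l • nc v₁ {v₂}⁆ with hRdef
  have hRN : R ≤ nc v₁ {v₂} := hR.trans inf_le_left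
  -- `N_{C₁}(V₁) ≤ N(R)`
  have hnor : ∀ t ∈ cz v₁, t * v' * t⁻¹ ∈ V₁ → t ∈ normalizer (R : Set G) := fun t ht htV =>
    mem_normalizer_of_conj (conj_R S ht htV)
  have hTR : T ≤ normalizer (R : Set G) := fun t ht => hnor t (hb.T_le ht) (h.T1 t ht _ hv')
  have hL2R : L₂ ≤ normalizer (R : Set G) := fun t ht => hnor t (hb.L2_le ht) (by
    rw [h.L21 t ht v' hv', mul_inv_cancel_right]; exact hv')
  have v1R : v₁ ∉ R := fun e => S.v_not_mem (hR e).2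
  -- `R ≠ 1`
  have hRne : R ≠ ⊥ := by
    intro h0
    rw [hRdef, hb.N1_eq] at h0
    have h1 : MulAut.conj l • NN v₁ V₂ ≤ centralizer (NN v₁ V₂ : Set G) := by
      rw [commutator_comm] at h0
      exact commutator_eq_bot_iff_le_centralizer.1 h0
    have h2 : centralizer (NN v₁ V₂ : Set G) ≤ normalizer (V₁ : Set G) := by
      refine le_trans (le_inf ?_ ?_) hF
      · refine centralizer_le ?_
        rintro _ rfl
        exact hv
      · rw [hb.N1_eq]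
    have h3 := S1.card_le h1 h2
    have hle : NN v₁ V₂ ⊓ MulAut.conj l • NN v₁ V₂ ≤ NN v₁ V₂ := inf_le_left
    have h4 := two_mul_card_le hle ⟨v₁, hv, fun e => S1.v_not_mem e.2⟩
    have h5 : ((NN v₁ V₂ ⊓ MulAut.conj l • NN v₁ V₂).subgroupOf (NN v₁ V₂)).index = 2 := by
      have h6 := ((NN v₁ V₂ ⊓ MulAut.conj l • NN v₁ V₂).subgroupOf (NN v₁ V₂)).card_mul_index
      rw [Nat.card_congr (subgroupOfEquivOfLe hle).toEquiv] at h6
      have h7 : 0 < Nat.card (NN v₁ V₂ ⊓ MulAut.conj l • NN v₁ V₂ : Subgroup G) := Nat.card_pos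
      have h8 : Nat.card (NN v₁ V₂) = Nat.card (NN v₁ V₂ ⊓ MulAut.conj l • NN v₁ V₂ : Subgroup G) * 2 := by omega
      rw [h8] at h6
      exact Nat.eq_of_mul_eq_mul_left h7 h6
    refine not_index_two h hB hv S1 S2 fun x hx => ?_
    by_cases hxF : x ∈ NN v₁ V₂ ⊓ MulAut.conj l • NN v₁ V₂
    · exact Or.inl hxF
    · right
      have h6 := (mul_mem_iff_of_index_two h5 (a := ⟨x, hx⟩) (b := ⟨v₁, hv⟩)).2
        ⟨fun e => absurd e hxF, fun e => absurd e.2 S1.v_not_mem⟩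
      exact h6
  -- `V₂ ≤ R`
  have v2R : v₂ ∈ R := by
    obtain ⟨x, hx, hx1, hxT⟩ := NoFF.LinesPlug.exists_fixed h.pT (hRN.trans hb.N1_le_T) hTR hRne
    refine hb.no_compl hL2R ?_
    rcases hb.N1_fix (hRN hx) hxT with e | e | e | e
    · exact absurd e hx1
    · exact absurd (e ▸ hx) v1R
    · exact Or.inl (e ▸ hx)
    · exact Or.inr (e ▸ hx)
  have hV2R : V₂ ≤ R := hb.symm.V1_le_of hL2R v2R
  have hiso := R_iso S o₁ le_rfl
  -- `|R| > 4`
  have h4 : 4 < Nat.card R := by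
    have h5 := Subgroup.card_le_of_le hV2R
    rw [h.card2] at h5
    rcases Nat.lt_or_ge 4 (Nat.card R) with h6 | h6
    · exact h6
    · exfalso
      have h7 : V₂ = R := Subgroup.eq_of_le_of_card_ge hV2R (by rw [h.card2]; exact h6)
      exact card_R_ne S o₁ le_rfl (by rw [← hRdef, ← h7, h.card2]) fun x hx => h.Q_V2 (h7 ▸ hx)
  -- the pigeon
  have hs := sy_perp (sy_of o₂) o₂.r_mem
  obtain ⟨hxp, hxy⟩ := pt_mem h o₂ hb hv' hv'1 hv'v
  have hst : ∀ m ∈ cz v₁ ⊓ centralizer {v₂}, m * v' * m⁻¹ * v' ∈ yr (sy_of o₂) o₂.r_mem → m ∈ normalizer (R : Set G) := by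
    intro m hm e
    have h5 := (stab_iff h o₂ hv' hv'1 hv'v ⟨hm.2, hm.1⟩).1 e
    exact hnor m hm.1 ((mem_normalizer_iff.1 h5 _).1 hv')
  refine ⟨w, l, hl, ⟨S, ⟨o₁, hRN, v2R, h.v2, v1R, hiso, ?_⟩, hV2R, h4, hF, ?_⟩⟩
  · intro m₁ hm₁ m₂ hm₂ m₃ hm₃ n1 n2 n3
    have dn : ∀ m m', Sy.DC (cz v₂ ⊓ centralizer {v₁}) (yr (sy_of o₂) o₂.r_mem) v' m m' → DN (cz v₁) R m m' := by
      rintro m m' ⟨a, ha, b, hb', ea, eb, e⟩
      exact ⟨a, ⟨ha.2, hst a ⟨ha.2, ha.1⟩ ea⟩, b, ⟨hb'.2, hst b ⟨hb'.2, hb'.1⟩ eb⟩, e⟩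
    rcases hs.pigeon hxp hxy ⟨hm₁.2, hm₁.1⟩ ⟨hm₂.2, hm₂.1⟩ ⟨hm₃.2, hm₃.1⟩ (fun e => n1 (hst _ hm₁ e))
      (fun e => n2 (hst _ hm₂ e)) (fun e => n3 (hst _ hm₃ e)) with h5 | h5 | h5
    · exact Or.inl (dn _ _ h5)
    · exact Or.inr (Or.inl (dn _ _ h5))
    · exact Or.inr (Or.inr (dn _ _ h5))
  · intro m hm
    exact hnor m hm.1 ((mem_normalizer_iff.1 hm.2 _).1 hv')

/-- `|N₁| = 2⁷` -/
theorem card_N1 (h : One T V₁ V₂ L₁ L₂ v₁ v₂ s)
    (hI : ∃ x ∈ nc v₁ {v₂}, ∃ y ∈ nc v₂ {v₁}, x * y ≠ y * x) : Nat.card (nc v₁ {v₂}) = 128 := by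
  obtain ⟨x, hx, hx1, hxv⟩ := exists_x h
  obtain ⟨w, l, hl, P⟩ := exists_plane h hI hx hx1 hxv
  exact P.rk.card_N P.four

end main

end Cfsg.Agent.Omega.IId.PlaneOf

end

section


/-!
# II.d, CASE 1, `q = 2`, case B: `C_{C₁}(N₁) = O₂(C₁)`

helper310.  `Plane` + nonlocality: every element of odd order of `F₁ = C_{C₁}(N₁)` centralises `N₁^l`, so the group
generated by these elements is normalised by `C₁` and `L₁`; hence it is trivial: `F₁ = O₂(C₁)`.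
-/

set_option autoImplicit false
set_option linter.unusedSectionVars false
set_option linter.unusedVariables false

namespace Cfsg.Agent.Omega.IId.Pf.Rad

open Cfsg.Agent.Omega.TV hiding z2
open Subgroup Cfsg Cfsg.Agent.ZN Cfsg.Agent.Omega.IId.PlaneSy Cfsg.Agent.Omega.IId.PlaneRk
open Cfsg.Agent.Omega.IId.PlaneF Cfsg.Agent.Omega.IId.PlaneOf
open Cfsg.Agent.Omega.IId.One Cfsg.Agent.Omega.IId.SpSide
open Cfsg.Agent.Omega.MinPar
open Cfsg.Agent.Omega.NoFF.Basic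
open scoped Pointwise commutatorElement

universe u

variable {G : Type u} [Group G]

/-! ### Elements of odd order -/

/-- An element of odd order is a power of its square. -/
theorem odd_pow {g : G} (ho : Odd (orderOf g)) : ∃ k : ℕ, (g * g) ^ k = g := by
  obtain ⟨k, hk⟩ := ho
  refine ⟨k + 1, ?_⟩
  have h1 : (g * g) ^ (k + 1) = g ^ (2 * k + 1) * g := by
    rw [← pow_two, ← pow_mul, ← pow_succ]
    congr 1
  rw [h1, ← hk, pow_orderOf_eq_one, one_mul]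

theorem odd_comm {g x : G} (ho : Odd (orderOf g)) (h2 : g * g * x = x * (g * g)) : g * x = x * g := by
  obtain ⟨k, hk⟩ := odd_pow ho
  have h1 : Commute (g * g) x := h2
  have h3 := h1.pow_left k
  rw [hk] at h3
  exact h3

/-- `g x g⁻¹ = x w`, `g w g⁻¹ = w`, `w² = 1`: an element of odd order fixes `x`. -/
theorem odd_fix {g x w : G} (ho : Odd (orderOf g)) (h1 : g * x * g⁻¹ = x * w) (h2 : g * w * g⁻¹ = w)
    (h3 : w * w = 1) : g * x * g⁻¹ = x := by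
  have h4 : g * g * x = x * (g * g) := by
    have e1 : g * g * x * (g * g)⁻¹ = g * (g * x * g⁻¹) * g⁻¹ := by group
    have e2 : g * (x * w) * g⁻¹ = g * x * g⁻¹ * (g * w * g⁻¹) := by group
    rw [h1, e2, h1, h2, mul_assoc x, h3, mul_one] at e1
    exact mul_inv_eq_iff_eq_mul.1 e1
  rw [odd_comm ho h4, mul_inv_cancel_right]

theorem odd_conj {g t : G} (ho : Odd (orderOf g)) : Odd (orderOf (t * g * t⁻¹)) := by
  rwa [show t * g * t⁻¹ = MulAut.conj t g from rfl, MulEquiv.orderOf_eq]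

/-- A finite group without elements of odd order `≠ 1` is a 2-group. -/
theorem pGroup_of [Finite G] {P : Subgroup G} (h : ∀ g ∈ P, Odd (orderOf g) → g = 1) : IsPGroup 2 P := by
  rintro ⟨g, hg⟩
  obtain ⟨k, m, hm, he⟩ := Nat.exists_eq_two_pow_mul_odd (orderOf_pos g).ne'
  refine ⟨k, Subtype.ext ?_⟩
  show g ^ 2 ^ k = 1
  refine h _ (pow_mem hg _) ?_
  rw [orderOf_pow_of_dvd (pow_pos two_pos k).ne' (by rw [he]; exact dvd_mul_right _ _), he,
    Nat.mul_div_cancel_left _ (pow_pos two_pos k)]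
  exact hm

/-! ### The radical of a totally singular plane -/

/-- `g ∈ C` of odd order centralising `A` with `A^⊥ = A⟨c⟩` centralises `N`. -/
theorem odd_cent {C N A : Subgroup G} {r c g : G} (o : GOrth C N r c) (hA : A ≤ N)
    (hp : ∀ y ∈ N, (∀ t ∈ A, Bg C r y t = 0) → y ∈ A ∨ y * c ∈ A) (hg : g ∈ C) (ho : Odd (orderOf g))
    (hgA : ∀ t ∈ A, g * t * g⁻¹ = t) : ∀ x ∈ N, g * x * g⁻¹ = x := by
  intro x hx
  have hs := sy_of o
  have hgx := o.nor g hg x hx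
  have hw : x⁻¹ * (g * x * g⁻¹) ∈ N := mul_mem (inv_mem hx) hgx
  have hgc := o.c_fix g hg
  refine odd_fix (w := x⁻¹ * (g * x * g⁻¹)) ho (by group) ?_ (o.sq _ hw)
  have h1 := hp _ hw fun t ht => by
    rw [o.add_left (inv_mem hx) hgx (hA ht), hs.iv hx]
    nth_rewrite 2 [← hgA t ht]
    rw [o.B_inv hg hx (hA ht), z2_self]
  generalize x⁻¹ * (g * x * g⁻¹) = w at h1 hw
  rcases h1 with h1 | h1
  · exact hgA w h1
  · have h2 := hgA _ h1
    have e : g * (w * c) * g⁻¹ = g * w * g⁻¹ * (g * c * g⁻¹) := by group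
    rw [e, hgc] at h2
    exact mul_right_cancel h2

/-- `R^⊥ = R⟨c⟩` -/
theorem perp_of_rk [Finite G] {C N R : Subgroup G} {r c : G} (h : Rk C N R r c) (h4 : 4 < Nat.card R) {y : G}
    (hy : y ∈ N) (hyR : ∀ t ∈ R, Bg C r y t = 0) : y ∈ R ∨ y * c ∈ R := by
  rcases z2 (Qg C r y) with h1 | h1
  · exact Or.inl (h.sing h4 hy hyR h1)
  · refine Or.inr (h.sing h4 (mul_mem hy h.o.c_mem) (fun t ht => ?_) (by rw [h.o.Qmulc hy, h1]; decide))
    rw [h.o.add_left hy h.o.c_mem (h.RN ht), hyR t ht, h.o.Bc _ (h.RN ht), add_zero]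

/-- `R` is totally singular. -/
theorem Q_zero_rk [Finite G] {C N R : Subgroup G} {r c : G} (h : Rk C N R r c) (h4 : 4 < Nat.card R) {y : G}
    (hy : y ∈ R) : Qg C r y = 0 := by
  rcases z2 (Qg C r y) with h1 | h1
  · exact h1
  · exfalso
    have hyN := h.RN hy
    have h2 : y * c ∈ R := h.sing h4 (mul_mem hyN h.o.c_mem) (fun t ht => by
      rw [h.o.add_left hyN h.o.c_mem (h.RN ht), h.iso y hy t ht, h.o.Bc _ (h.RN ht), add_zero])
      (by rw [h.o.Qmulc hyN, h1]; decide)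
    apply h.cR
    have h3 := mul_mem (inv_mem hy) h2
    rwa [inv_mul_cancel_left] at h3

section side

variable {V W N : Subgroup G} {v v' w l : G} (S : Side V W N v v' w l)
include S

/-- `l` normalises `R = [N, N^l]`. -/
theorem conj_l_R : MulAut.conj l • ⁅N, MulAut.conj l • N⁆ = ⁅N, MulAut.conj l • N⁆ := by
  have h1 : MulAut.conj l • ⁅N, MulAut.conj l • N⁆ = ⁅MulAut.conj l • N, MulAut.conj l • (MulAut.conj l • N)⁆ :=
    Subgroup.map_commutator _ _ _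
  rw [h1, conj_conj]
  have hv : l * (l * v * l⁻¹) * l⁻¹ ∈ V := (mem_normalizer_iff.1 S.l_V _).1 ((mem_normalizer_iff.1 S.l_V _).1 S.vV)
  have e : l * l * v * (l * l)⁻¹ = l * (l * v * l⁻¹) * l⁻¹ := by group
  have n1 : l * (l * v * l⁻¹) * l⁻¹ ≠ 1 := fun h2 => S.v1 (by
    calc v = l⁻¹ * (l⁻¹ * (l * (l * v * l⁻¹) * l⁻¹) * l) * l := by group
      _ = 1 := by rw [h2]; group)
  have n2 : l * (l * v * l⁻¹) * l⁻¹ ≠ v' := fun h2 => S.ne (by
    rw [← S.l_v] at h2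
    have h3 : l * v * l⁻¹ = v := by
      calc l * v * l⁻¹ = l⁻¹ * (l * (l * v * l⁻¹) * l⁻¹) * l := by group
        _ = v := by rw [h2]; group
    rw [← S.l_v, h3])
  rcases (S.memV _).1 hv with h2 | h2 | h2 | h2
  · exact absurd h2 n1
  · have h3 : MulAut.conj (l * l) • N = MulAut.conj (1 : G) • N := by
      apply S.conj_N_eq
      rw [e, h2]; group
    rw [h3, map_one, one_smul, commutator_comm]
  · exact absurd h2 n2
  · have h3 : MulAut.conj (l * l) • N = MulAut.conj (l * w * l⁻¹) • N := by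
      apply S.conj_N_eq
      rw [e, h2, S.w'_v]
    rw [h3]
    have h4 : MulAut.conj l • N = MulAut.conj (l * w * l⁻¹) • (MulAut.conj l • N) :=
      (conj_eq_of_centralizer S.w'_N').symm
    nth_rewrite 1 [h4]
    have h5 : MulAut.conj (l * w * l⁻¹) • ⁅N, MulAut.conj l • N⁆ =
        ⁅MulAut.conj (l * w * l⁻¹) • N, MulAut.conj (l * w * l⁻¹) • (MulAut.conj l • N)⁆ :=
      Subgroup.map_commutator _ _ _
    rw [commutator_comm, ← h5]
    exact conj_eq_of_centralizer (centralizer_le ((R_le S).trans inf_le_right) S.w'_N')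

end side

section main

variable [Finite G] {T V₁ V₂ L₁ L₂ : Subgroup G} {v₁ v₂ s : G}

/-- the elements of odd order of `F₁` -/
def XX (v₁ v₂ : G) : Subgroup G :=
  closure {f | f ∈ cz v₁ ⊓ centralizer (nc v₁ {v₂} : Set G) ∧ Odd (orderOf f)}

theorem XX_le : XX v₁ v₂ ≤ cz v₁ ⊓ centralizer (nc v₁ {v₂} : Set G) := by
  rw [XX, closure_le]
  exact fun f hf => hf.1

/-- **`F₁ = O₂(C₁)`** -/
theorem F1_eq (h : One T V₁ V₂ L₁ L₂ v₁ v₂ s) (hnl : NonLoc (cz v₁) (cz v₂))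
    (hI : ∃ x ∈ nc v₁ {v₂}, ∃ y ∈ nc v₂ {v₁}, x * y ≠ y * x) {v' w l : G} (hl : l ∈ L₁)
    (P : Plane V₁ V₂ v₁ v₂ v' w l) :
    cz v₁ ⊓ centralizer (nc v₁ {v₂} : Set G) = ZN.o2 (cz v₁) := by
  have hb := h.toBase
  have o₁ := h.orth hI
  have o₂ := h.symm.orth (One.hI_symm hI)
  have S := P.side
  set F := cz v₁ ⊓ centralizer (nc v₁ {v₂} : Set G) with hF
  set R : Subgroup G := ⁅nc v₁ {v₂}, MulAut.conj l • nc v₁ {v₂}⁆ with hR
  have hRN : R ≤ nc v₁ {v₂} := P.rk.RN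
  -- `C₁` normalises `X`
  have hC1 : cz v₁ ≤ normalizer (XX v₁ v₂ : Set G) := by
    intro g hg
    apply Cfsg.Agent.MinSimple.VModule.mem_normalizer_of_map_le
    rw [XX, MonoidHom.map_closure, closure_le]
    rintro _ ⟨f, ⟨hf, ho⟩, rfl⟩
    refine subset_closure ⟨?_, odd_conj ho⟩
    exact (mem_normalizer_iff.1 (hb.F1_norm hg) f).1 hf
  -- `l⁻¹ X l ≤ X`
  have key : ∀ f ∈ F, Odd (orderOf f) → l⁻¹ * f * l ∈ F := by
    intro f hf ho
    have hfV : f * v' * f⁻¹ = v' := by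
      have h1 := (mem_normalizer_iff.1 (P.F1 hf) v').1 S.v'V
      rcases hb.conj1 hf.1 h1 S.v'V with h2 | h2
      · exact h2
      · refine odd_fix (w := v₁) ho ?_ ?_ hb.vq1
        · rw [h2, S.comm]
        · rw [mem_cz.1 hf.1, mul_inv_cancel_right]
    have hg : l⁻¹ * f * l ∈ cz v₁ := by
      rw [mem_cz]
      have h1 : f * (l * v₁ * l⁻¹) * f⁻¹ = l * v₁ * l⁻¹ := by rw [S.l_v, hfV]
      have h2 : f * (l * v₁ * l⁻¹) = l * v₁ * l⁻¹ * f := by
        rw [mul_inv_eq_iff_eq_mul] at h1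
        exact h1
      calc l⁻¹ * f * l * v₁ = l⁻¹ * (f * (l * v₁ * l⁻¹)) * l := by group
        _ = v₁ * (l⁻¹ * f * l) := by rw [h2]; group
    have ho' : Odd (orderOf (l⁻¹ * f * l)) := by
      have := odd_conj (t := l⁻¹) ho
      rwa [inv_inv] at this
    have h3 := odd_cent o₁ hRN (fun y hy hyR => perp_of_rk P.rk P.four hy hyR) hg ho' fun t ht => by
      have h4 : l * t * l⁻¹ ∈ R := by
        rw [hR, ← conj_l_R S]
        exact ⟨t, ht, rfl⟩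
      have h5 := mem_centralizer_iff.1 hf.2 _ (hRN h4)
      calc l⁻¹ * f * l * t * (l⁻¹ * f * l)⁻¹ = l⁻¹ * (f * (l * t * l⁻¹)) * f⁻¹ * l := by group
        _ = l⁻¹ * (l * t * l⁻¹ * f) * f⁻¹ * l := by rw [← h5]
        _ = t := by group
    exact mem_inf.2 ⟨hg, mem_centralizer_iff.2 fun x hx => (mul_inv_eq_iff_eq_mul.1 (h3 x hx)).symm⟩
  have hlX : l⁻¹ ∈ normalizer (XX v₁ v₂ : Set G) := by
    apply Cfsg.Agent.MinSimple.VModule.mem_normalizer_of_map_le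
    rw [XX, MonoidHom.map_closure, closure_le]
    rintro _ ⟨f, ⟨hf, ho⟩, rfl⟩
    refine subset_closure ⟨?_, odd_conj ho⟩
    have := key f hf ho
    show l⁻¹ * f * l⁻¹⁻¹ ∈ F
    rwa [inv_inv]
  have hl' : l ∈ normalizer (XX v₁ v₂ : Set G) := by
    have := inv_mem hlX
    rwa [inv_inv] at this
  -- `L₁` normalises `X`
  have hwC : w ∈ cz v₁ := mem_cz.2 (mem_centralizer_iff.1 S.w_N v₁ S.vN).symm
  have hL1 : L₁ ≤ normalizer (XX v₁ v₂ : Set G) := by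
    intro k hk
    have hkV := hb.L1 k hk v₁ hb.vV1
    have step : ∀ g ∈ normalizer (XX v₁ v₂ : Set G), g * v₁ * g⁻¹ = k * v₁ * k⁻¹ → k ∈ normalizer (XX v₁ v₂ : Set G) := by
      intro g hg e
      have h1 : g⁻¹ * k ∈ cz v₁ := by
        rw [mem_cz]
        calc g⁻¹ * k * v₁ = g⁻¹ * (k * v₁ * k⁻¹) * k := by group
          _ = v₁ * (g⁻¹ * k) := by rw [← e]; group
      have h2 := mul_mem hg (hC1 h1)
      rwa [mul_inv_cancel_left] at h2
    rcases (S.memV _).1 hkV with h1 | h1 | h1 | h1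
    · exfalso
      apply hb.v1
      calc v₁ = k⁻¹ * (k * v₁ * k⁻¹) * k := by group
        _ = 1 := by rw [h1]; group
    · exact step 1 (one_mem _) (by rw [h1]; group)
    · exact step l hl' (by rw [h1, S.l_v])
    · refine step (w * l) (mul_mem (hC1 hwC) hl') ?_
      have e : w * l * v₁ * (w * l)⁻¹ = w * (l * v₁ * l⁻¹) * w⁻¹ := by group
      rw [e, S.l_v, S.w_v', h1]
  have hC2 : cz v₂ ≤ normalizer (XX v₁ v₂ : Set G) :=
    (gen h.symm o₂).trans (sup_le (inf_le_right.trans hC1) hL1)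
  have ho2 : ZN.o2 (XX v₁ v₂) = ⊥ :=
    hnl _ (isPGroup_o2 _) (hC1.trans (normalizer_le_normalizer_o2 _)) (hC2.trans (normalizer_le_normalizer_o2 _))
  -- `X ∩ Q₁ = 1`
  have hXC : XX v₁ v₂ ≤ cz v₁ := XX_le.trans inf_le_left
  have hXQ : XX v₁ v₂ ⊓ ZN.o2 (cz v₁) = ⊥ := by
    rw [eq_bot_iff, ← ho2]
    refine ZN.le_o2 inf_le_left ((isPGroup_o2 _).to_le inf_le_right) ?_
    exact Half.le_normalizer_inf le_normalizer (hXC.trans (le_normalizer_o2 _))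
  have hX1 : XX v₁ v₂ = ⊥ := by
    rw [eq_bot_iff, ← hXQ]
    refine le_inf le_rfl fun x hx => hb.char2 (mem_inf.2 ⟨hXC hx, mem_centralizer_iff.2 fun q hq => ?_⟩)
    have h1 : x * q * x⁻¹ * q⁻¹ ∈ XX v₁ v₂ ⊓ ZN.o2 (cz v₁) := by
      refine mem_inf.2 ⟨?_, ?_⟩
      · have h2 := (mem_normalizer_iff.1 (hC1 (o2_le _ hq)) x⁻¹).1 (inv_mem hx)
        have e : x * q * x⁻¹ * q⁻¹ = x * (q * x⁻¹ * q⁻¹) := by group
        rw [e]
        exact mul_mem hx h2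
      · exact mul_mem ((mem_normalizer_iff.1 (le_normalizer_o2 _ (hXC hx)) q).1 hq) (inv_mem hq)
    rw [hXQ, mem_bot, mul_inv_eq_one, mul_inv_eq_iff_eq_mul] at h1
    exact h1.symm
  have hF2 : IsPGroup 2 F := pGroup_of fun g hg ho => by
    have h1 : g ∈ XX v₁ v₂ := subset_closure ⟨hg, ho⟩
    rwa [hX1, mem_bot] at h1
  exact le_antisymm (ZN.le_o2 inf_le_left hF2 hb.F1_norm) hb.Q_le_F1

end main

end Cfsg.Agent.Omega.IId.Pf.Rad

end

section


/-!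
# II.d, CASE 1, `q = 2`, case B: the parabolics

helper310.  `siegel` : Siegel elements of `N_M(R)`; `nC` : `N_{C₁}(R) = N_{C₁}(V₁)`, transitive on `R^#`;
`mem_T` : `T = N_M(V₁) ∩ N_M(V₂)`.
-/

set_option autoImplicit false
set_option linter.unusedSectionVars false
set_option linter.unusedVariables false

namespace Cfsg.Agent.Omega.IId.Pf.Par

open Cfsg.Agent.Omega.TV hiding z2
open Subgroup Cfsg Cfsg.Agent.ZN Cfsg.Agent.Omega.IId.PlaneSy Cfsg.Agent.Omega.IId.PlaneRk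
open Cfsg.Agent.Omega.IId.PlaneF Cfsg.Agent.Omega.IId.PlaneOf
open Cfsg.Agent.Omega.IId.One Cfsg.Agent.Omega.IId.SpSide
open Cfsg.Agent.Omega.MinPar
open Cfsg.Agent.Omega.NoFF.Basic
open Cfsg.Agent.Omega.IId.Pf.Rad
open Cfsg.Agent.Omega.IId.Two (le_normalizer_of)
open scoped Pointwise commutatorElement

universe u

variable {G : Type u} [Group G]

/-! ### Siegel elements -/

theorem siegel [Finite G] {C N R : Subgroup G} {r c : G} (h : Rk C N R r c) {a y t₀ : G} (ha : a ∈ N)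
    (ar : Bg C r a r = 0) (hy : y ∈ N) (hyR : ∀ t ∈ R, Bg C r y t = 0) (hQ : Qg C r y = 0)
    (ay : Bg C r a y = 0) (ht₀ : t₀ ∈ R) (at₀ : Bg C r a t₀ = 1) :
    ∃ m ∈ C ⊓ centralizer {r}, ∀ x ∈ R, (Bg C r a x = 0 ∧ m * x * m⁻¹ = x) ∨
      (Bg C r a x = 1 ∧ m * x * m⁻¹ = x * y) := by
  have hs := sy_of h.o
  have ht₀N := h.RN ht₀
  have hay : a * y ∈ N := mul_mem ha hy
  -- the two transvections
  obtain ⟨a', ha', haa, haB, g, hg, hgn⟩ := h.exists_tau ha ar ht₀N at₀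
  obtain ⟨b', hb', hbb, hbB, k, hk, hkn⟩ := h.exists_tau hay
    (by rw [h.o.add_left ha hy h.o.r_mem, ar, hyR r h.rR, add_zero]) ht₀N
    (by rw [h.o.add_left ha hy ht₀N, at₀, hyR t₀ ht₀, add_zero])
  have hyr : ∀ x ∈ R, Bg C r (a * y) x = Bg C r a x := fun x hx => by
    rw [h.o.add_left ha hy (h.RN hx), hyR x hx, add_zero]
  -- action on `R`
  have act : ∀ x ∈ R, (Bg C r a x = 0 ∧ k * g * x * (k * g)⁻¹ = x) ∨
      (Bg C r a x = 1 ∧ k * g * x * (k * g)⁻¹ = x * (a' * b')) := by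
    intro x hx
    have hxN := h.RN hx
    have e : k * g * x * (k * g)⁻¹ = k * (g * x * g⁻¹) * k⁻¹ := by group
    rw [e]
    rcases hgn x hxN with ⟨h1, h2⟩ | ⟨h1, h2⟩
    · left
      refine ⟨h1, ?_⟩
      rw [h2]
      rcases hkn x hxN with ⟨-, h3⟩ | ⟨h3, -⟩
      · exact h3
      · rw [hyr x hx, h1] at h3; exact absurd h3 (by decide)
    · right
      refine ⟨h1, ?_⟩
      rw [h2]
      rcases hkn _ (mul_mem hxN ha') with ⟨h3, -⟩ | ⟨-, h3⟩
      · exfalso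
        rw [h.o.add _ hay _ hxN _ ha', hyr x hx, h1, h.o.add_left ha hy ha', h.o.comm _ ha _ ha', haB a ha,
          h.o.self a ha, h.o.comm _ hy _ ha', haB y hy, ay] at h3
        exact absurd h3 (by decide)
      · rw [h3, mul_assoc]
  -- `a'b' = y`
  have hcN := h.o.c_mem
  have hab : a' * b' = y := by
    have hyy : a' * b' = y ∨ a' * b' = y * c := by
      have e1 : a = a' ∨ a = c * a' := by
        have haa' := h.o.sq a' ha'
        rcases (mem_zp2 h.cc).1 haa with e | e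
        · left
          calc a = a * a' * a' := by rw [mul_assoc, haa', mul_one]
            _ = a' := by rw [e, one_mul]
        · right
          calc a = a * a' * a' := by rw [mul_assoc, haa', mul_one]
            _ = c * a' := by rw [e]
      have e2 : b' = a * y ∨ b' = a * y * c := by
        have hay2 := h.o.sq _ hay
        rcases (mem_zp2 h.cc).1 hbb with e | e
        · left
          calc b' = a * y * (a * y * b') := by rw [← mul_assoc, hay2, one_mul]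
            _ = a * y := by rw [e, mul_one]
        · right
          calc b' = a * y * (a * y * b') := by rw [← mul_assoc, hay2, one_mul]
            _ = a * y * c := by rw [e]
      have haa' := h.o.sq a' ha'
      have hca : c * a' = a' * c := hs.mc hcN ha'
      have hcy : c * y = y * c := hs.mc hcN hy
      rcases e1 with e1 | e1 <;> rcases e2 with e2 | e2 <;> rw [e2]
      · left
        calc a' * (a * y) = a' * a * y := by group
          _ = y := by rw [e1, haa', one_mul]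
      · right
        calc a' * (a * y * c) = a' * a * y * c := by group
          _ = y * c := by rw [e1, haa', one_mul]
      · right
        calc a' * (a * y) = a' * a * y := by group
          _ = a' * (a' * c) * y := by rw [e1, hca]
          _ = (a' * a') * (c * y) := by group
          _ = y * c := by rw [haa', one_mul, hcy]
      · left
        calc a' * (a * y * c) = a' * a * y * c := by group
          _ = a' * (a' * c) * y * c := by rw [e1, hca]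
          _ = (a' * a') * (c * y) * c := by group
          _ = y * (c * c) := by rw [haa', one_mul, hcy]; group
          _ = y := by rw [h.cc, mul_one]
    rcases hyy with e | e
    · exact e
    · exfalso
      rcases act t₀ ht₀ with ⟨h1, -⟩ | ⟨-, h2⟩
      · rw [at₀] at h1; exact absurd h1 (by decide)
      · have hyc : y * c ∈ N := mul_mem hy hcN
        have h3 := h.o.inv _ (mul_mem hk hg).1 t₀ ht₀N
        rw [h2, e, GOrth.Q_mul, h.o.Qmulc hy, hQ, h.o.add _ ht₀N _ hy _ hcN, h.o.comm _ ht₀N _ hy, hyR t₀ ht₀,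
          h.o.comm _ ht₀N _ hcN, h.o.Bc t₀ ht₀N] at h3
        have h4 : ∀ u : ZMod 2, u + (0 + 1) + (0 + 0) ≠ u := by decide
        exact h4 _ h3
  rw [hab] at act
  exact ⟨k * g, mul_mem hk hg, act⟩

/-- `x → x y` on `R`, fixing `r` and `y`, for `x ∉ ⟨r, y⟩` -/
theorem siegel' [Finite G] {C N R : Subgroup G} {r c : G} (h : Rk C N R r c) (h4 : 4 < Nat.card R) {x y : G}
    (hx : x ∈ R) (hy : y ∈ R) (hx1 : x ≠ 1) (hxr : x ≠ r) (hxy : x ≠ y) (hxyr : x * r ≠ y) :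
    ∃ m ∈ C ⊓ centralizer {r}, m ∈ normalizer (R : Set G) ∧ m * y * m⁻¹ = y ∧ m * x * m⁻¹ = x * y ∧
      ∀ t ∈ R, m * t * m⁻¹ = t ∨ m * t * m⁻¹ = t * y := by
  have hs := sy_of h.o
  have hxN := h.RN hx
  have hyN := h.RN hy
  have hrN := h.o.r_mem
  have sqx := h.o.sq x hxN
  have eqv : ∀ t u : G, u ∈ N → t * u = 1 → t = u := fun t u hu e => by
    calc t = t * (u * u) := by rw [h.o.sq u hu, mul_one]
      _ = u := by rw [← mul_assoc, e, one_mul]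
  have nz : ∀ t ∈ R, t ≠ 1 → t ∉ zpowers c := fun t ht ht1 => h.not_zp ht ht1
  obtain ⟨a, ha, a1, a2, a3⟩ := hs.sep3 hxN hrN hyN (nz x hx hx1)
    (nz _ (mul_mem hx h.rR) fun e => hxr (eqv _ _ hrN e)) (nz _ (mul_mem hx hy) fun e => hxy (eqv _ _ hyN e))
    (nz _ (mul_mem (mul_mem hx h.rR) hy) fun e => hxyr (eqv _ _ hyN e))
  rw [h.o.comm _ hxN _ ha] at a1
  rw [h.o.comm _ hrN _ ha] at a2
  rw [h.o.comm _ hyN _ ha] at a3
  obtain ⟨m, hm, hmx⟩ := siegel h ha a2 hyN (fun t ht => h.iso y hy t ht) (Q_zero_rk h h4 hy) a3 hx a1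
  refine ⟨m, hm, ?_, ?_, ?_, ?_⟩
  · apply Cfsg.Agent.MinSimple.VModule.mem_normalizer_of_map_le
    rintro _ ⟨t, ht, rfl⟩
    show m * t * m⁻¹ ∈ R
    rcases hmx t ht with ⟨-, h1⟩ | ⟨-, h1⟩
    · rw [h1]; exact ht
    · rw [h1]; exact mul_mem ht hy
  · rcases hmx y hy with ⟨-, h1⟩ | ⟨h1, -⟩
    · exact h1
    · rw [a3] at h1; exact absurd h1 (by decide)
  · rcases hmx x hx with ⟨h1, -⟩ | ⟨-, h1⟩
    · rw [a1] at h1; exact absurd h1 (by decide)
    · exact h1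
  · intro t ht
    rcases hmx t ht with ⟨-, h1⟩ | ⟨-, h1⟩
    · exact Or.inl h1
    · exact Or.inr h1

/-- the reflection in the vector `y c`, `y` singular -/
theorem tau [Finite G] {C N : Subgroup G} {r c : G} (o : GOrth C N r c) {y : G} (hy : y ∈ N) (hy1 : y ≠ 1)
    (hQ : Qg C r y = 0) : ∃ g ∈ C, ∀ n ∈ N, (Bg C r y n = 0 ∧ g * n * g⁻¹ = n) ∨
      (Bg C r y n = 1 ∧ g * n * g⁻¹ = n * (y * c)) := o.refl y hy hy1 hQ

section main

variable [Finite G] {T V₁ V₂ L₁ L₂ : Subgroup G} {v₁ v₂ s : G}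

/-- the plane -/
abbrev RR (v₁ v₂ l : G) : Subgroup G := ⁅nc v₁ {v₂}, MulAut.conj l • nc v₁ {v₂}⁆

/-- `N_M(R) ≤ N(V₁)` -/
theorem nM (h : One T V₁ V₂ L₁ L₂ v₁ v₂ s) (hI : ∃ x ∈ nc v₁ {v₂}, ∃ y ∈ nc v₂ {v₁}, x * y ≠ y * x)
    {v' w l : G} (P : Plane V₁ V₂ v₁ v₂ v' w l) {m : G} (hm1 : m ∈ cz v₁) (hm2 : m ∈ cz v₂)
    (hmR : m ∈ normalizer (RR v₁ v₂ l : Set G)) : m ∈ normalizer (V₁ : Set G) := by
  by_contra hmV
  have hb := h.toBase
  have o₂ := h.symm.orth (One.hI_symm hI)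
  have S := P.side
  have hv' := S.v'V
  have hv'1 := S.v'1
  have hv'v : v' ≠ v₁ := fun e => S.ne e.symm
  have hs := sy_perp (sy_of o₂) o₂.r_mem
  obtain ⟨hxp, hxy⟩ := pt_mem h o₂ hb hv' hv'1 hv'v
  obtain ⟨m₁, hm₁, m₂, hm₂, S₁, hS₁, S₂, hS₂, hr₂, hmS₁, hmS₂, hmf₂, hc₁, hc₂, -⟩ := P.rk.two_steps P.four
  have hpos : 0 < Nat.card S₂ := Nat.card_pos
  have n1 := P.rk.not_norm hS₁ hmS₁ (by omega)
  have n2 := P.rk.not_norm hS₂ hmS₂ (by omega)
  have hst : ∀ k ∈ cz v₁, k ∈ cz v₂ → (k * v' * k⁻¹ * v' ∈ yr (sy_of o₂) o₂.r_mem ↔ k ∈ normalizer (V₁ : Set G)) :=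
    fun k hk1 hk2 => stab_iff h o₂ hv' hv'1 hv'v ⟨hk2, hk1⟩
  have dn : ∀ m m', Sy.DC (cz v₂ ⊓ centralizer {v₁}) (yr (sy_of o₂) o₂.r_mem) v' m m' →
      DN (cz v₁) (RR v₁ v₂ l) m m' := by
    rintro m m' ⟨a, ha, b, hb', ea, eb, e⟩
    exact ⟨a, ⟨ha.2, P.nor ⟨ha.2, (hst a ha.2 ha.1).1 ea⟩⟩, b, ⟨hb'.2, P.nor ⟨hb'.2, (hst b hb'.2 hb'.1).1 eb⟩⟩, e⟩
  have c0 : II (RR v₁ v₂ l) m = RR v₁ v₂ l := by
    ext t
    exact ⟨fun ht => ht.1, fun ht => ⟨ht, (mem_normalizer_iff.1 hmR t).1 ht⟩⟩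
  have c1 : II (RR v₁ v₂ l) m₁ = S₁ := P.rk.card_II hS₁ hmS₁
  have c2 : II (RR v₁ v₂ l) m₂ = S₂ := P.rk.card_II hS₂ hmS₂
  have hc : Nat.card (RR v₁ v₂ l) = 2 * Nat.card S₁ := hc₁
  rcases hs.pigeon hxp hxy ⟨hm2, hm1⟩ ⟨hm₁.2, hm₁.1⟩ ⟨hm₂.2, hm₂.1⟩ (fun e => hmV ((hst m hm1 hm2).1 e))
    (fun e => n1 (P.nor ⟨hm₁.1, (hst m₁ hm₁.1 hm₁.2).1 e⟩)) (fun e => n2 (P.nor ⟨hm₂.1, (hst m₂ hm₂.1 hm₂.2).1 e⟩))
    with h5 | h5 | h5
  · have := (dn _ _ h5).card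
    rw [c0, c1] at this
    omega
  · have := (dn _ _ h5).card
    rw [c0, c2] at this
    omega
  · have := (dn _ _ h5).card
    rw [c1, c2] at this
    omega

/-- `N_{C₁}(V₁)` is transitive on `R^#`. -/
theorem transR (h : One T V₁ V₂ L₁ L₂ v₁ v₂ s) (hI : ∃ x ∈ nc v₁ {v₂}, ∃ y ∈ nc v₂ {v₁}, x * y ≠ y * x)
    {v' w l : G} (P : Plane V₁ V₂ v₁ v₂ v' w l) {t : G} (ht : t ∈ RR v₁ v₂ l) (ht1 : t ≠ 1) :
    ∃ n ∈ cz v₁ ⊓ normalizer (V₁ : Set G), n * t * n⁻¹ = v₂ := by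
  have hb := h.toBase
  have hL2 : ∀ k ∈ L₂, k ∈ cz v₁ ⊓ normalizer (V₁ : Set G) := fun k hk =>
    ⟨hb.L2_le hk, le_normalizer_of (fun k hk v hv => by
      rw [h.L21 k hk v hv, mul_inv_cancel_right]; exact hv) hk⟩
  by_cases htV : t ∈ V₂
  · obtain ⟨k, hk, e⟩ := h.t2 t htV ht1 v₂ h.vV2 h.v2
    exact ⟨k, hL2 k hk, e⟩
  · obtain ⟨u, hu, hu1, huv⟩ := exists_x h.symm
    have htN := P.rk.RN ht
    have htt := P.rk.o.sq t htN
    obtain ⟨m, hm, hmR, -, hmt, -⟩ := siegel' P.rk P.four (x := t) (y := t * u) ht (mul_mem ht (P.V2R hu)) ht1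
      (fun e => htV (e ▸ h.vV2)) (fun e => hu1 (by
        calc u = t * (t * u) := by rw [← mul_assoc, htt, one_mul]
          _ = 1 := by rw [← e, htt])) (fun e => huv (mul_left_cancel e).symm)
    rw [← mul_assoc, htt, one_mul] at hmt
    have hmV := nM h hI P hm.1 hm.2 hmR
    obtain ⟨k, hk, e⟩ := h.t2 u hu hu1 v₂ h.vV2 h.v2
    refine ⟨k * m, mul_mem (hL2 k hk) ⟨hm.1, hmV⟩, ?_⟩
    have e2 : k * m * t * (k * m)⁻¹ = k * (m * t * m⁻¹) * k⁻¹ := by group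
    rw [e2, hmt, e]

/-- `N_{C₁}(R) ≤ N(V₁)` -/
theorem nC (h : One T V₁ V₂ L₁ L₂ v₁ v₂ s) (hI : ∃ x ∈ nc v₁ {v₂}, ∃ y ∈ nc v₂ {v₁}, x * y ≠ y * x)
    {v' w l : G} (P : Plane V₁ V₂ v₁ v₂ v' w l) {g : G} (hg : g ∈ cz v₁)
    (hgR : g ∈ normalizer (RR v₁ v₂ l : Set G)) : g ∈ normalizer (V₁ : Set G) := by
  have h1 : g * v₂ * g⁻¹ ∈ RR v₁ v₂ l := (mem_normalizer_iff.1 hgR _).1 P.rk.rR
  have h2 : g * v₂ * g⁻¹ ≠ 1 := fun e => h.v2 (by
    calc v₂ = g⁻¹ * (g * v₂ * g⁻¹) * g := by group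
      _ = 1 := by rw [e]; group)
  obtain ⟨n, hn, e⟩ := transR h hI P h1 h2
  have h3 : n * g ∈ cz v₂ := by
    rw [mem_cz]
    have e2 : n * g * v₂ * (n * g)⁻¹ = v₂ := by
      calc n * g * v₂ * (n * g)⁻¹ = n * (g * v₂ * g⁻¹) * n⁻¹ := by group
        _ = v₂ := e
    exact mul_inv_eq_iff_eq_mul.1 e2
  have h4 := nM h hI P (mul_mem hn.1 hg) h3 (mul_mem (P.nor hn) hgR)
  have h5 := (normalizer (V₁ : Set G)).mul_mem ((normalizer (V₁ : Set G)).inv_mem hn.2) h4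
  rwa [inv_mul_cancel_left] at h5

/-- `V₂` has index 2 in `R`. -/
theorem quo_V2 (h : One T V₁ V₂ L₁ L₂ v₁ v₂ s) {v' w l : G} (P : Plane V₁ V₂ v₁ v₂ v' w l) {x y : G}
    (hx : x ∈ RR v₁ v₂ l) (hy : y ∈ RR v₁ v₂ l) (hx2 : x ∉ V₂) (hy2 : y ∉ V₂) : x * y ∈ V₂ := by
  have h8 := P.rk.card_eq P.four
  have h5 : (V₂.subgroupOf (RR v₁ v₂ l)).index = 2 := by
    have h6 := (V₂.subgroupOf (RR v₁ v₂ l)).card_mul_index
    rw [Nat.card_congr (subgroupOfEquivOfLe P.V2R).toEquiv, h8, h.card2] at h6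
    omega
  have h6 := (mul_mem_iff_of_index_two h5 (a := ⟨x, hx⟩) (b := ⟨y, hy⟩)).2
    ⟨fun e => absurd e hx2, fun e => absurd e hy2⟩
  exact h6

/-- **`T = N_M(V₁) ∩ N_M(V₂)`** -/
theorem mem_T (h : One T V₁ V₂ L₁ L₂ v₁ v₂ s) (hnl : NonLoc (cz v₁) (cz v₂))
    (hI : ∃ x ∈ nc v₁ {v₂}, ∃ y ∈ nc v₂ {v₁}, x * y ≠ y * x)
    {v' w l : G} (hl : l ∈ L₁) (P : Plane V₁ V₂ v₁ v₂ v' w l) :
    T = cz v₁ ⊓ cz v₂ ⊓ normalizer (V₁ : Set G) ⊓ normalizer (V₂ : Set G) := by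
  have hb := h.toBase
  have hle : T ≤ cz v₁ ⊓ cz v₂ ⊓ normalizer (V₁ : Set G) ⊓ normalizer (V₂ : Set G) :=
    le_inf (le_inf hb.T_leM hb.T_norm1) hb.T_norm2
  refine le_antisymm hle (h.syl1 _ (pGroup_of fun g hg ho => ?_) hle fun x hx => mem_cz.1 hx.1.1.1)
  obtain ⟨⟨⟨hg1, hg2⟩, hgV1⟩, hgV2⟩ := hg
  have hgR : g ∈ normalizer (RR v₁ v₂ l : Set G) := P.nor ⟨hg1, hgV1⟩
  -- `g` fixes `V₂`
  have fV : ∀ x ∈ V₂, g * x * g⁻¹ = x := by
    intro x hx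
    have h1 := (mem_normalizer_iff.1 hgV2 x).1 hx
    rcases hb.symm.conj1 hg2 h1 hx with h2 | h2
    · exact h2
    · refine odd_fix (w := v₂) ho ?_ ?_ hb.vq2
      · rw [h2, h.c2 _ h.vV2 _ hx]
      · rw [mem_cz.1 hg2, mul_inv_cancel_right]
  have fR : ∀ x ∈ RR v₁ v₂ l, g * x * g⁻¹ = x := by
    intro x hx
    by_cases hxV : x ∈ V₂
    · exact fV x hxV
    have h1 := (mem_normalizer_iff.1 hgR x).1 hx
    have h2 : g * x * g⁻¹ ∉ V₂ := fun e => hxV ((mem_normalizer_iff.1 hgV2 x).2 e)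
    have hxx := P.rk.o.sq x (P.rk.RN hx)
    have h3 := quo_V2 h P hx h1 hxV h2
    refine odd_fix (w := x * (g * x * g⁻¹)) ho ?_ (fV _ h3) (h.q2 _ h3)
    rw [← mul_assoc, hxx, one_mul]
  have fN := odd_cent P.rk.o P.rk.RN (fun y hy hyR => perp_of_rk P.rk P.four hy hyR) hg1 ho fR
  have h1 : g ∈ ZN.o2 (cz v₁) := by
    rw [← F1_eq h hnl hI hl P]
    exact mem_inf.2 ⟨hg1, mem_centralizer_iff.2 fun x hx => (mul_inv_eq_iff_eq_mul.1 (fN x hx)).symm⟩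
  obtain ⟨k, hk⟩ := isPGroup_o2 (cz v₁) ⟨g, h1⟩
  have h2 : g ^ 2 ^ k = 1 := congrArg Subtype.val hk
  have h3 := (Nat.dvd_prime_pow Nat.prime_two).1 (orderOf_dvd_of_pow_eq_one h2)
  obtain ⟨j, -, hj⟩ := h3
  rcases Nat.eq_zero_or_pos j with h0 | h0
  · rw [h0, pow_zero, orderOf_eq_one_iff] at hj
    exact hj
  · exfalso
    rw [hj] at ho
    exact (Nat.not_odd_iff_even.2 (Nat.even_pow.2 ⟨even_two, h0.ne'⟩)) ho

end main

end Cfsg.Agent.Omega.IId.Pf.Par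

end

section


/-!
# II.d, CASE 1, `q = 2`, case B: `|T| ≥ 2²⁴`

helper370, after helper310.  `Aᵢ = v₃₋ᵢ^⊥` in `Nᵢ`.  `A₂ ≤ Kk v₁`, and `C_{A₂}(Q₁) = {1, v₁, v₂, v₁v₂}`; the
commutator form on `A₂ × Q₁` gives `|Q₁| ≥ 2¹⁵`, on `A₁ × Q₂` it gives `|Q₂ : Q₁ ∩ Q₂| ≥ 2⁵`.  The group
`Ta = {t ∈ T : [R, t] ≤ ⟨v₂⟩} ≠ T` contains `Q₁Q₂`, and `|Ta : Q₁Q₂| ≥ 2³`.
-/

set_option autoImplicit false
set_option linter.unusedSectionVars false
set_option linter.unusedVariables false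

namespace Cfsg.Agent.Omega.IId.Pf.Card

open Cfsg.Agent.Omega.TV hiding z2
open Subgroup Cfsg Cfsg.Agent.ZN Cfsg.Agent.Omega.IId.PlaneSy Cfsg.Agent.Omega.IId.PlaneRk
open Cfsg.Agent.Omega.IId.PlaneF Cfsg.Agent.Omega.IId.PlaneOf
open Cfsg.Agent.Omega.IId.One Cfsg.Agent.Omega.IId.SpSide
open Cfsg.Agent.Omega.MinPar
open Cfsg.Agent.Omega.NoFF.Basic
open Cfsg.Agent.Omega.IId.Pf.Rad Cfsg.Agent.Omega.IId.Pf.Par Cfsg.Agent.Omega.IId.Pf.Dual
open Cfsg.Agent.Omega.IId.SpForm (two_mul_card_le)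
open Cfsg.Agent.Omega.IId.Two (le_normalizer_of)
open scoped Pointwise commutatorElement

universe u

variable {G : Type u} [Group G]

theorem card_sup [Finite G] (A B : Subgroup G) :
    Nat.card A * Nat.card B ≤ Nat.card (A ⊓ B : Subgroup G) * Nat.card (A ⊔ B : Subgroup G) := by
  have h1 := relIndex_mul_relIndex (⊥ : Subgroup G) (A ⊓ B) A bot_le inf_le_left
  have h2 := relIndex_mul_relIndex (⊥ : Subgroup G) B (A ⊔ B) bot_le le_sup_right
  rw [relIndex_bot_left, relIndex_bot_left, inf_relIndex_left] at h1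
  rw [relIndex_bot_left, relIndex_bot_left] at h2
  have h4 : B.relIndex A ≤ B.relIndex (A ⊔ B) := relIndex_le_of_le_right le_sup_left (by
    rw [relIndex]
    exact index_ne_zero_of_finite)
  calc Nat.card A * Nat.card B = Nat.card (A ⊓ B : Subgroup G) * (Nat.card B * B.relIndex A) := by
        rw [← h1]; ring
    _ ≤ Nat.card (A ⊓ B : Subgroup G) * (Nat.card B * B.relIndex (A ⊔ B)) := by gcongr
    _ = _ := by rw [h2]

/-! ### The commutator form -/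

/-- the commutator form -/
noncomputable def cf (a x : G) : ZMod 2 := open Classical in if a * x = x * a then 0 else 1

theorem cf_zero {a x : G} : cf a x = 0 ↔ a * x = x * a := by
  unfold cf
  split_ifs with h <;> simp [h]

theorem cf_one {a x : G} : cf a x = 1 ↔ a * x ≠ x * a := by
  unfold cf
  split_ifs with h <;> simp [h]

theorem cf_of0 {a x : G} (h : a * x * a⁻¹ = x) : cf a x = 0 := cf_zero.2 (mul_inv_eq_iff_eq_mul.1 h)

theorem cf_of1 {v a x : G} (hv : v ≠ 1) (h : a * x * a⁻¹ = v * x) : cf a x = 1 := cf_one.2 fun e => hv (by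
  have h1 : a * x * a⁻¹ = x := mul_inv_eq_iff_eq_mul.2 e
  rw [h] at h1
  exact mul_eq_right.1 h1)

theorem cf_val {v a x : G} (hv : v ≠ 1) (h : a * x * a⁻¹ = x ∨ a * x * a⁻¹ = v * x) :
    (cf a x = 0 ∧ a * x * a⁻¹ = x) ∨ (cf a x = 1 ∧ a * x * a⁻¹ = v * x) := by
  rcases h with h | h
  · exact Or.inl ⟨cf_of0 h, h⟩
  · exact Or.inr ⟨cf_of1 hv h, h⟩

theorem cf_add_left {v a b x : G} (hv : v ≠ 1) (hvv : v * v = 1) (hav : a * v = v * a)
    (ha : a * x * a⁻¹ = x ∨ a * x * a⁻¹ = v * x) (hb : b * x * b⁻¹ = x ∨ b * x * b⁻¹ = v * x) :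
    cf (a * b) x = cf a x + cf b x := by
  have e : a * b * x * (a * b)⁻¹ = a * (b * x * b⁻¹) * a⁻¹ := by group
  have e2 : a * (v * x) * a⁻¹ = v * (a * x * a⁻¹) := by
    calc a * (v * x) * a⁻¹ = (a * v) * x * a⁻¹ := by group
      _ = v * (a * x * a⁻¹) := by rw [hav]; group
  rcases cf_val hv ha with ⟨h1, h2⟩ | ⟨h1, h2⟩ <;> rcases cf_val hv hb with ⟨h3, h4⟩ | ⟨h3, h4⟩ <;>
    rw [h1, h3]
  · rw [cf_of0 (by rw [e, h4, h2])]; decide
  · rw [cf_of1 hv (by rw [e, h4, e2, h2])]; decide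
  · rw [cf_of1 hv (by rw [e, h4, h2])]; decide
  · rw [cf_of0 (by rw [e, h4, e2, h2, ← mul_assoc, hvv, one_mul])]; decide

theorem cf_add_right {v a x y : G} (hv : v ≠ 1) (hvv : v * v = 1) (hxv : x * v = v * x)
    (hx : a * x * a⁻¹ = x ∨ a * x * a⁻¹ = v * x) (hy : a * y * a⁻¹ = y ∨ a * y * a⁻¹ = v * y) :
    cf a (x * y) = cf a x + cf a y := by
  have e : a * (x * y) * a⁻¹ = (a * x * a⁻¹) * (a * y * a⁻¹) := by group
  have e2 : x * (v * y) = v * (x * y) := by rw [← mul_assoc, hxv, mul_assoc]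
  rcases cf_val hv hx with ⟨h1, h2⟩ | ⟨h1, h2⟩ <;> rcases cf_val hv hy with ⟨h3, h4⟩ | ⟨h3, h4⟩ <;>
    rw [h1, h3]
  · rw [cf_of0 (by rw [e, h4, h2])]; decide
  · rw [cf_of1 hv (by rw [e, h4, h2, e2])]; decide
  · rw [cf_of1 hv (by rw [e, h4, h2, mul_assoc])]; decide
  · rw [cf_of0 (by rw [e, h4, h2, mul_assoc, e2, ← mul_assoc, hvv, one_mul])]; decide

section pts

variable [Finite G] {T V₁ V₂ L₁ L₂ : Subgroup G} {v₁ v₂ s : G} (h : One T V₁ V₂ L₁ L₂ v₁ v₂ s)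
  (o : GOrth (cz v₂) (nc v₂ {v₁}) v₁ v₂)
include h o

/-- `M` is transitive on the points of `v₁^⊥`, `v₁^⊥ ≤ N₂`. -/
theorem trans_pt {x : G} (hx : x ∈ V₁) (hx1 : x ≠ 1) (hxv : x ≠ v₁) {a : G}
    (ha : a ∈ (sy_of o).pp o.r_mem) (ha' : a ∉ yr (sy_of o) o.r_mem) :
    ∃ g ∈ cz v₂ ⊓ cz v₁, g * x * g⁻¹ * a ∈ yr (sy_of o) o.r_mem := by
  have hs := sy_perp (sy_of o) o.r_mem
  obtain ⟨hxp, hxy⟩ := pt_mem h o h.toBase hx hx1 hxv
  obtain ⟨z, hz, e⟩ := hs.sep1 hxp hxy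
  obtain ⟨k, hk, -, hkz⟩ := hs.tr hxp hz e
  refine hs.norm_trans le_rfl (fun m hm k hk => mul_mem (mul_mem hm hk) (inv_mem hm)) hxp hxy hk (fun e2 => ?_)
    ha ha'
  have hkx := hs.nor k hk x hxp
  have h1 := hs.eqv_trans hkx (hs.eqv_symm hkx hxp e2) hkz
  have h2 := hs.zero _ h1 z hz
  rw [hs.add_left hxp hz hz, e, hs.self z hz] at h2
  exact absurd h2 (by decide)

/-- `⟨v₁, v₂⟩` centralises `T`. -/
theorem yr_T {y t : G} (hy : y ∈ yr (sy_of o) o.r_mem) (ht : t ∈ T) : y * t = t * y := by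
  rcases mem_yr' h o hy with rfl | rfl | rfl | rfl
  · rw [one_mul, mul_one]
  · exact (h.Tv2 t ht).symm
  · exact (h.Tv1 t ht).symm
  · rw [← mul_assoc, h.Tv1 t ht, mul_assoc, ← h.Tv2 t ht, mul_assoc]

theorem yr_Kk : yr (sy_of o) o.r_mem ≤ Kk v₁ := by
  have h2 : v₂ ∈ Kk v₁ := ⟨h.T_le (h.V2T h.vV2), fun x hx => by
    rw [← h.Tv2 x (h.Q_le hx)]
    have e : x * v₂ * v₂⁻¹ * x⁻¹ = 1 := by group
    rw [e]
    exact one_mem _⟩
  have h1 : v₁ ∈ Kk v₁ := h.V1_le_Kk h.vV1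
  intro y hy
  rcases mem_yr' h o hy with rfl | rfl | rfl | rfl
  · exact one_mem _
  · exact h2
  · exact h1
  · exact mul_mem h1 h2

/-- `v₁^⊥ ≤ Kk v₁` -/
theorem A_le : (sy_of o).pp o.r_mem ≤ Kk v₁ := by
  intro a ha
  by_cases ha' : a ∈ yr (sy_of o) o.r_mem
  · exact yr_Kk h o ha'
  obtain ⟨x, hx, hx1, hxv⟩ := exists_x h
  obtain ⟨g, hg, e⟩ := trans_pt h o hx hx1 hxv ha ha'
  have h1 := (mem_normalizer_iff.1 (le_normalizer_Kk v₁ hg.2) x).1 (h.V1_le_Kk hx)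
  have h2 := mul_mem (inv_mem h1) (yr_Kk h o e)
  rwa [inv_mul_cancel_left] at h2

theorem A_le_Q : (sy_of o).pp o.r_mem ≤ ZN.o2 (cz v₁) := (A_le h o).trans h.Kk_le_Q

/-- `C_{A₂}(Q₁) ≤ ⟨v₁, v₂⟩` -/
theorem ker_le {a : G} (ha : a ∈ (sy_of o).pp o.r_mem) (hc : ∀ x ∈ ZN.o2 (cz v₁), a * x = x * a) :
    a ∈ yr (sy_of o) o.r_mem := by
  by_contra ha'
  obtain ⟨w, hw, x, hx, hne⟩ := h.k1
  have hx1 : x ≠ 1 := fun e => hne (by rw [e, one_mul, mul_one])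
  have hxv : x ≠ v₁ := fun e => hne (by rw [e]; exact mem_cz.1 hw.1)
  obtain ⟨g, hg, e⟩ := trans_pt h o hx hx1 hxv ha ha'
  have hwQ := h.Kk_le_Q hw
  have hgw : g * w * g⁻¹ ∈ ZN.o2 (cz v₁) := (mem_normalizer_iff.1 (le_normalizer_o2 _ hg.2) w).1 hwQ
  have h1 := yr_T h o e (h.Q_le hgw)
  have h2 := hc _ hgw
  -- `x` commutes with `w`
  apply hne
  have h3 : g * x * g⁻¹ * (g * w * g⁻¹) = g * w * g⁻¹ * (g * x * g⁻¹) := by
    apply mul_right_cancel (b := a)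
    calc g * x * g⁻¹ * (g * w * g⁻¹) * a = g * x * g⁻¹ * (g * w * g⁻¹ * a) := by group
      _ = g * x * g⁻¹ * a * (g * w * g⁻¹) := by rw [← h2]; group
      _ = g * w * g⁻¹ * (g * x * g⁻¹) * a := by rw [h1]; group
  have e1 : g * x * g⁻¹ * (g * w * g⁻¹) = g * (x * w) * g⁻¹ := by group
  have e2 : g * w * g⁻¹ * (g * x * g⁻¹) = g * (w * x) * g⁻¹ := by group
  rw [e1, e2] at h3
  exact (mul_left_cancel (mul_right_cancel h3)).symm

theorem card_yr : Nat.card (yr (sy_of o) o.r_mem) ≤ 4 := by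
  classical
  have h5 : ((yr (sy_of o) o.r_mem : Subgroup G) : Set G) ⊆ (({1, v₂, v₁, v₁ * v₂} : Finset G) : Set G) := by
    intro t ht
    simpa using mem_yr' h o ht
  have h6 := Set.ncard_le_ncard h5 (Finset.finite_toSet _)
  rw [Set.ncard_coe_finset] at h6
  have h7 : Nat.card (yr (sy_of o) o.r_mem) = ((yr (sy_of o) o.r_mem : Subgroup G) : Set G).ncard :=
    Nat.card_coe_set_eq _
  have h9 : ({1, v₂, v₁, v₁ * v₂} : Finset G).card ≤ 4 := Finset.card_le_four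
  omega

theorem card_pp (hN : Nat.card (nc v₂ {v₁}) = 128) : Nat.card ((sy_of o).pp o.r_mem) = 64 := by
  have hs := sy_of o
  obtain ⟨z, hz, e⟩ := hs.sep1 o.r_mem fun e => by
    rcases (mem_zp2 h.vq2).1 e with e | e
    · exact h.v1 e
    · exact h.ne e
  have a1 : Nat.card (nc v₂ {v₁}) = 2 * Nat.card ((sy_of o).pp o.r_mem) :=
    card_ker (f := Bg (cz v₂) v₁ v₁) (fun x hx y hy => o.add v₁ o.r_mem x hx y hy) (fun x => Iff.rfl) ⟨z, hz, e⟩
  omega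

/-- `[Q₁, A₂] ≤ ⟨v₁⟩` -/
theorem A_conj {a x : G} (ha : a ∈ (sy_of o).pp o.r_mem) (hx : x ∈ ZN.o2 (cz v₁)) :
    a * x * a⁻¹ = x ∨ a * x * a⁻¹ = v₁ * x := Kk_conj h.vq1 (A_le h o ha) hx

theorem dualQ {K : Subgroup G} (hK : K ≤ ZN.o2 (cz v₁))
    (hc : ∀ z ∈ K, ∀ a ∈ (sy_of o).pp o.r_mem, a * z = z * a) :
    Nat.card ((sy_of o).pp o.r_mem) * Nat.card K ≤ Nat.card (yr (sy_of o) o.r_mem) * Nat.card (ZN.o2 (cz v₁)) := by
  refine dual_card (f := cf) _ rfl (fun a ha b hb x hx => ?_) (fun a ha x hx y hy => ?_)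
    (fun a ha h0 => ker_le h o ha fun x hx => cf_zero.1 (h0 x hx)) hK (fun z hz a ha => cf_zero.2 (hc z hz a ha))
  · exact cf_add_left h.v1 h.vq1 (mem_cz.1 (A_le h o ha).1) (A_conj h o ha hx) (A_conj h o hb hx)
  · exact cf_add_right h.v1 h.vq1 (mem_cz.1 (o2_le _ hx)) (A_conj h o ha hx) (A_conj h o ha hy)

end pts

section main

variable [Finite G] {T V₁ V₂ L₁ L₂ : Subgroup G} {v₁ v₂ s : G}

/-- **(a)** -/
theorem card_Q (h : One T V₁ V₂ L₁ L₂ v₁ v₂ s) (hI : ∃ x ∈ nc v₁ {v₂}, ∃ y ∈ nc v₂ {v₁}, x * y ≠ y * x) :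
    2 ^ 15 ≤ Nat.card (ZN.o2 (cz v₁)) := by
  have o := h.symm.orth (One.hI_symm hI)
  have hN1 := card_N1 h hI
  have hN2 := card_N1 h.symm (One.hI_symm hI)
  have hA := card_pp h o hN2
  have hY := card_yr h o
  have hAQ := A_le_Q h o
  -- the intersection
  have h1 : nc v₁ {v₂} ⊓ (sy_of o).pp o.r_mem ≤ yr (sy_of o) o.r_mem := fun a ha =>
    ker_le h o ha.2 fun x hx => (h.Q_N1 hx ha.1).symm
  have h2 := Subgroup.card_le_of_le h1
  have h3 := card_sup (nc v₁ {v₂}) ((sy_of o).pp o.r_mem)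
  have h4 := dualQ h o (K := nc v₁ {v₂} ⊔ (sy_of o).pp o.r_mem) (sup_le h.N1_le_Q hAQ) (by
    have h5 : nc v₁ {v₂} ⊔ (sy_of o).pp o.r_mem ≤ centralizer ((sy_of o).pp o.r_mem : Set G) := by
      refine sup_le (fun x hx => mem_centralizer_iff.2 fun a ha => h.Q_N1 (hAQ ha) hx)
        (fun x hx => mem_centralizer_iff.2 fun a ha => h.symm.N1_comm ha.1 hx.1)
    exact fun z hz a ha => mem_centralizer_iff.1 (h5 hz) a ha)
  rw [hN1, hA] at h3
  rw [hA] at h4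
  have h6 : Nat.card (nc v₁ {v₂} ⊓ (sy_of o).pp o.r_mem : Subgroup G) *
      Nat.card (nc v₁ {v₂} ⊔ (sy_of o).pp o.r_mem : Subgroup G) ≤
      4 * Nat.card (nc v₁ {v₂} ⊔ (sy_of o).pp o.r_mem : Subgroup G) := Nat.mul_le_mul_right _ (h2.trans hY)
  have h7 : Nat.card (yr (sy_of o) o.r_mem) * Nat.card (ZN.o2 (cz v₁)) ≤ 4 * Nat.card (ZN.o2 (cz v₁)) :=
    Nat.mul_le_mul_right _ hY
  omega

/-- **(b)** -/
theorem card_QQ (h : One T V₁ V₂ L₁ L₂ v₁ v₂ s) (hI : ∃ x ∈ nc v₁ {v₂}, ∃ y ∈ nc v₂ {v₁}, x * y ≠ y * x) :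
    2 ^ 20 ≤ Nat.card (ZN.o2 (cz v₁) ⊔ ZN.o2 (cz v₂) : Subgroup G) := by
  have o := h.orth hI
  have hN1 := card_N1 h hI
  have hQ1 := card_Q h hI
  have hA := card_pp h.symm o hN1
  have hY := card_yr h.symm o
  -- `K = C_{Q₂}(A₁)`
  set K : Subgroup G := ZN.o2 (cz v₂) ⊓ centralizer ((sy_of o).pp o.r_mem : Set G) with hK
  have h1 := dualQ h.symm o (K := K) inf_le_left (fun z hz a ha => mem_centralizer_iff.1 hz.2 a ha)
  have h2 : 2 * Nat.card (ZN.o2 (cz v₁) ⊓ ZN.o2 (cz v₂) : Subgroup G) ≤ Nat.card K := by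
    refine two_mul_card_le (fun x hx => ⟨hx.2, mem_centralizer_iff.2 fun a ha => (h.Q_N1 hx.1 ha.1).symm⟩) ?_
    obtain ⟨x, hx, y, hy, hne⟩ := hI
    exact ⟨y, ⟨h.symm.N1_le_Q hy, mem_centralizer_iff.2 fun a ha =>
      h.symm.Q_N1 (A_le_Q h.symm o ha) hy⟩, fun e => hne (h.Q_N1 e.1 hx).symm⟩
  have h3 := card_sup (ZN.o2 (cz v₁)) (ZN.o2 (cz v₂))
  rw [hA] at h1
  have h4 : Nat.card (yr (sy_of o) o.r_mem) * Nat.card (ZN.o2 (cz v₂)) ≤ 4 * Nat.card (ZN.o2 (cz v₂)) :=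
    Nat.mul_le_mul_right _ hY
  have h5 : 32 * Nat.card (ZN.o2 (cz v₁) ⊓ ZN.o2 (cz v₂) : Subgroup G) ≤ Nat.card (ZN.o2 (cz v₂)) := by omega
  have h6 : 0 < Nat.card (ZN.o2 (cz v₁) ⊓ ZN.o2 (cz v₂) : Subgroup G) := Nat.card_pos
  have h7 : 2 ^ 15 * (32 * Nat.card (ZN.o2 (cz v₁) ⊓ ZN.o2 (cz v₂) : Subgroup G)) ≤
      Nat.card (ZN.o2 (cz v₁)) * Nat.card (ZN.o2 (cz v₂)) := Nat.mul_le_mul hQ1 h5
  have h8 : Nat.card (ZN.o2 (cz v₁) ⊓ ZN.o2 (cz v₂) : Subgroup G) * 2 ^ 20 ≤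
      Nat.card (ZN.o2 (cz v₁) ⊓ ZN.o2 (cz v₂) : Subgroup G) * Nat.card (ZN.o2 (cz v₁) ⊔ ZN.o2 (cz v₂) : Subgroup G) := by
    calc _ = 2 ^ 15 * (32 * Nat.card (ZN.o2 (cz v₁) ⊓ ZN.o2 (cz v₂) : Subgroup G)) := by ring
      _ ≤ _ := h7.trans h3
  exact Nat.le_of_mul_le_mul_left h8 h6

end main

/-! ### The group `Ta` -/

/-- `{t ∈ T : [R, t] ≤ ⟨c⟩}` -/
def Ta (T R : Subgroup G) (c : G) (hT : ∀ t ∈ T, t * c = c * t) : Subgroup G where
  carrier := {t | t ∈ T ∧ ∀ x ∈ R, t * x * t⁻¹ * x⁻¹ ∈ zpowers c}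
  one_mem' := ⟨one_mem _, fun x _ => by
    have e : (1 : G) * x * 1⁻¹ * x⁻¹ = 1 := by group
    rw [e]; exact one_mem _⟩
  mul_mem' := by
    rintro a b ⟨ha, ha'⟩ ⟨hb, hb'⟩
    refine ⟨mul_mem ha hb, fun x hx => ?_⟩
    have h1 : ∀ y ∈ zpowers c, a * y * a⁻¹ = y := by
      rintro _ ⟨k, rfl⟩
      have h2 : Commute a c := hT a ha
      change a * c ^ k * a⁻¹ = c ^ k
      rw [(h2.zpow_right k).eq, mul_inv_cancel_right]
    have e : a * b * x * (a * b)⁻¹ * x⁻¹ = (a * (b * x * b⁻¹ * x⁻¹) * a⁻¹) * (a * x * a⁻¹ * x⁻¹) := by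
      group
    rw [e, h1 _ (hb' x hx)]
    exact mul_mem (hb' x hx) (ha' x hx)
  inv_mem' := by
    rintro a ⟨ha, ha'⟩
    refine ⟨inv_mem ha, fun x hx => ?_⟩
    have h1 : ∀ y ∈ zpowers c, a⁻¹ * y * a = y := by
      rintro _ ⟨k, rfl⟩
      have h2 : Commute a c := hT a ha
      change a⁻¹ * c ^ k * a = c ^ k
      rw [mul_assoc, ← (h2.zpow_right k).eq, inv_mul_cancel_left]
    have e : a⁻¹ * x * a⁻¹⁻¹ * x⁻¹ = a⁻¹ * (a * x * a⁻¹ * x⁻¹)⁻¹ * a := by group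
    rw [e, h1 _ (inv_mem (ha' x hx))]
    exact inv_mem (ha' x hx)

theorem mem_Ta {T R : Subgroup G} {c : G} {hT : ∀ t ∈ T, t * c = c * t} {t : G} :
    t ∈ Ta T R c hT ↔ t ∈ T ∧ ∀ x ∈ R, t * x * t⁻¹ * x⁻¹ ∈ zpowers c := Iff.rfl

section rk

variable [Finite G] {C N R : Subgroup G} {r c : G} (h : Rk C N R r c) (h4 : 4 < Nat.card R)
include h

/-- `[A, t] ≤ R^⊥` for `t ∈ Ta` -/
theorem perpTa {t n : G} (ht : t ∈ C) (ht' : ∀ x ∈ R, t * x * t⁻¹ * x⁻¹ ∈ zpowers r) (hn : n ∈ N)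
    (hrn : Bg C r r n = 0) : ∀ x ∈ R, Bg C r (n⁻¹ * (t⁻¹ * n * t)) x = 0 := by
  intro x hx
  have hs := sy_of h.o
  have hxN := h.RN hx
  have hrr := h.o.sq r h.o.r_mem
  have htn : t⁻¹ * n * t ∈ N := hs.nor' ht hn
  rw [h.o.add_left (inv_mem hn) htn hxN, hs.iv hn, ← hs.inv_right ht hn hxN]
  have e : t * x * t⁻¹ = (t * x * t⁻¹ * x⁻¹) * x := by group
  rcases (mem_zp2 hrr).1 (ht' x hx) with h1 | h1
  · rw [e, h1, one_mul, z2_self]
  · rw [e, h1, h.o.add n hn r h.o.r_mem x hxN, h.o.comm n hn r h.o.r_mem, hrn, zero_add, z2_self]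

include h4

/-- `R^⊥` is totally isotropic. -/
theorem iso_perp {w w' : G} (hw : w ∈ N) (hw' : w' ∈ N) (hp : ∀ x ∈ R, Bg C r w x = 0)
    (hp' : ∀ x ∈ R, Bg C r w' x = 0) : Bg C r w w' = 0 := by
  rcases perp_of_rk h h4 hw' hp' with h1 | h1
  · exact hp w' h1
  · have h2 := hp _ h1
    rw [h.o.add w hw w' hw' c h.o.c_mem, h.o.comm w hw c h.o.c_mem, h.o.Bc w hw, add_zero] at h2
    exact h2

end rk

section last

variable [Finite G] {T V₁ V₂ L₁ L₂ : Subgroup G} {v₁ v₂ s : G}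

/-- the reflections `τ_y`, `y ∈ R^#`, lie in `T` -/
theorem tauR (h : One T V₁ V₂ L₁ L₂ v₁ v₂ s) (hnl : NonLoc (cz v₁) (cz v₂))
    (hI : ∃ x ∈ nc v₁ {v₂}, ∃ y ∈ nc v₂ {v₁}, x * y ≠ y * x) {v' w l : G} (hl : l ∈ L₁)
    (P : Plane V₁ V₂ v₁ v₂ v' w l) {y : G} (hy : y ∈ RR v₁ v₂ l) (hy1 : y ≠ 1) :
    ∃ g ∈ Ta T (RR v₁ v₂ l) v₂ h.Tv2, ∀ n ∈ nc v₁ {v₂}, (Bg (cz v₁) v₂ y n = 0 ∧ g * n * g⁻¹ = n) ∨
      (Bg (cz v₁) v₂ y n = 1 ∧ g * n * g⁻¹ = n * (y * v₁)) := by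
  obtain ⟨g, hg, hgn⟩ := P.rk.o.refl y (P.rk.RN hy) hy1 (Q_zero_rk P.rk P.four hy)
  have fR : ∀ x ∈ RR v₁ v₂ l, g * x * g⁻¹ = x := by
    intro x hx
    rcases hgn x (P.rk.RN hx) with ⟨-, h1⟩ | ⟨h1, -⟩
    · exact h1
    · rw [P.rk.iso y hy x hx] at h1; exact absurd h1 (by decide)
  have hg2 : g ∈ cz v₂ := mem_cz.2 (mul_inv_eq_iff_eq_mul.1 (fR v₂ P.rk.rR))
  have hgR : g ∈ normalizer (RR v₁ v₂ l : Set G) := by
    apply Cfsg.Agent.MinSimple.VModule.mem_normalizer_of_map_le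
    rintro _ ⟨t, ht, rfl⟩
    show g * t * g⁻¹ ∈ RR v₁ v₂ l
    rw [fR t ht]
    exact ht
  have hgV : g ∈ normalizer (V₂ : Set G) := by
    apply Cfsg.Agent.MinSimple.VModule.mem_normalizer_of_map_le
    rintro _ ⟨t, ht, rfl⟩
    show g * t * g⁻¹ ∈ V₂
    rw [fR t (P.V2R ht)]
    exact ht
  have hgT : g ∈ T := by
    rw [mem_T h hnl hI hl P]
    exact ⟨⟨⟨hg, hg2⟩, nC h hI P hg hgR⟩, hgV⟩
  exact ⟨g, ⟨hgT, fun x hx => by rw [fR x hx, mul_inv_cancel]; exact one_mem _⟩, hgn⟩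

/-- `Ta ≠ T` -/
theorem Ta_ne (h : One T V₁ V₂ L₁ L₂ v₁ v₂ s) (hnl : NonLoc (cz v₁) (cz v₂))
    (hI : ∃ x ∈ nc v₁ {v₂}, ∃ y ∈ nc v₂ {v₁}, x * y ≠ y * x) {v' w l : G} (hl : l ∈ L₁)
    (P : Plane V₁ V₂ v₁ v₂ v' w l) {u x : G} (hu : u ∈ V₂) (hu1 : u ≠ 1) (huv : u ≠ v₂)
    (hx : x ∈ RR v₁ v₂ l) (hx2 : x ∉ V₂) : ∃ m ∈ T, m ∉ Ta T (RR v₁ v₂ l) v₂ h.Tv2 := by
  obtain ⟨m, hm, hmR, hmu, hmx, -⟩ := siegel' P.rk P.four (x := x) (y := u) hx (P.V2R hu)
    (fun e => hx2 (e ▸ one_mem _)) (fun e => hx2 (e ▸ h.vV2)) (fun e => hx2 (e ▸ hu)) (fun e => hx2 (by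
      have e2 : x = u * v₂⁻¹ := by rw [← e]; group
      rw [e2]
      exact mul_mem hu (inv_mem h.vV2)))
  have hm2 : m * v₂ * m⁻¹ = v₂ := by rw [mem_cz.1 hm.2, mul_inv_cancel_right]
  refine ⟨m, ?_, fun e => ?_⟩
  · rw [mem_T h hnl hI hl P]
    refine ⟨⟨⟨hm.1, hm.2⟩, nC h hI P hm.1 hmR⟩, ?_⟩
    apply Cfsg.Agent.MinSimple.VModule.mem_normalizer_of_map_le
    rintro _ ⟨t, ht, rfl⟩
    show m * t * m⁻¹ ∈ V₂
    rcases h.toBase.symm.mem_V1 ht hu hu1 huv with rfl | rfl | rfl | rfl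
    · rw [mul_one, mul_inv_cancel]; exact one_mem _
    · rw [hm2]; exact h.vV2
    · rw [hmu]; exact hu
    · have e3 : m * (v₂ * u) * m⁻¹ = m * v₂ * m⁻¹ * (m * u * m⁻¹) := by group
      rw [e3, hm2, hmu]
      exact mul_mem h.vV2 hu
  · have h1 := e.2 x hx
    have h2 : x * u * x⁻¹ = u := by
      rw [(sy_of P.rk.o).mc (P.rk.RN hx) (P.rk.RN (P.V2R hu)), mul_inv_cancel_right]
    rw [hmx, h2] at h1
    rcases (mem_zp2 h.vq2).1 h1 with e | e
    · exact hu1 e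
    · exact huv e

/-- **`|T| ≥ 2²⁴`** -/
theorem card_T (h : One T V₁ V₂ L₁ L₂ v₁ v₂ s) (hnl : NonLoc (cz v₁) (cz v₂))
    (hI : ∃ x ∈ nc v₁ {v₂}, ∃ y ∈ nc v₂ {v₁}, x * y ≠ y * x) : 2 ^ 24 ≤ Nat.card T := by
  obtain ⟨v', hv', hv'1, hv'v⟩ := exists_x h
  obtain ⟨w, l, hl, P⟩ := exists_plane h hI hv' hv'1 hv'v
  have o := P.rk.o
  have hs := sy_of o
  have hrk := P.rk
  have h4 := P.four
  set R : Subgroup G := RR v₁ v₂ l with hR
  have hRN : R ≤ nc v₁ {v₂} := P.rk.RN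
  -- the basis of `R`
  obtain ⟨u, hu, hu1, huv⟩ := exists_x h.symm
  obtain ⟨x, hx, hx2⟩ : ∃ x ∈ R, x ∉ V₂ := by
    by_contra hcon
    push Not at hcon
    have h5 := Subgroup.card_le_of_le (show R ≤ V₂ from hcon)
    rw [h.card2] at h5
    have h6 : 4 < Nat.card R := P.four
    omega
  have huR : u ∈ R := P.V2R hu
  have huN := hRN huR
  have hxN := hRN hx
  have hvR : v₂ ∈ R := P.rk.rR
  have hvN := hRN hvR
  have eqv : ∀ t z : G, z ∈ nc v₁ {v₂} → t * z = 1 → t = z := fun t z hz e => by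
    calc t = t * (z * z) := by rw [o.sq z hz, mul_one]
      _ = z := by rw [← mul_assoc, e, one_mul]
  have nz : ∀ t ∈ R, t ≠ 1 → t ∉ zpowers v₁ := fun t ht ht1 => P.rk.not_zp ht ht1
  have n1 : x ∉ zpowers v₁ := nz x hx fun e => hx2 (e ▸ one_mem _)
  have n2 : x * u ∉ zpowers v₁ := nz _ (mul_mem hx huR) fun e => hx2 (eqv _ _ huN e ▸ hu)
  have n3 : x * v₂ ∉ zpowers v₁ := nz _ (mul_mem hx hvR) fun e => hx2 (eqv _ _ hvN e ▸ h.vV2)
  have n4 : x * u * v₂ ∉ zpowers v₁ := nz _ (mul_mem (mul_mem hx huR) hvR) fun e => hx2 (by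
    have e2 : x = v₂⁻¹⁻¹ * u⁻¹ := by
      have := eqv _ _ hvN e
      rw [inv_inv, ← this]
      group
    rw [e2, inv_inv]
    exact mul_mem h.vV2 (inv_mem hu))
  have n5 : u ∉ zpowers v₁ := nz u huR hu1
  have n6 : u * v₂ ∉ zpowers v₁ := nz _ (mul_mem huR hvR) fun e => huv (eqv _ _ hvN e)
  have n7 : v₂ ∉ zpowers v₁ := nz v₂ hvR h.v2
  -- the dual basis
  obtain ⟨a, ha, xa, ua, va⟩ := hs.val3 hxN huN hvN n1 n5 n7 n2 n3 n6 n4 0 1 0
  obtain ⟨b, hb, xb, ub, vb⟩ := hs.val3 hxN huN hvN n1 n5 n7 n2 n3 n6 n4 1 0 0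
  set A := Ta T R v₂ h.Tv2 with hA
  have hAT : A ≤ T := fun t ht => ht.1
  -- the functions `f`
  set F : G → G → G → ZMod 2 := fun n n' t => Bg (cz v₁) v₂ n (n'⁻¹ * (t * n' * t⁻¹)) with hF
  have hTC : ∀ t ∈ A, t ∈ cz v₁ := fun t ht => h.T_le ht.1
  have wN : ∀ t ∈ A, ∀ n ∈ nc v₁ {v₂}, n⁻¹ * (t * n * t⁻¹) ∈ nc v₁ {v₂} := fun t ht n hn =>
    mul_mem (inv_mem hn) (o.nor t (hTC t ht) n hn)
  have wp : ∀ t ∈ A, ∀ n ∈ nc v₁ {v₂}, Bg (cz v₁) v₂ v₂ n = 0 →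
      ∀ z ∈ R, Bg (cz v₁) v₂ (n⁻¹ * (t * n * t⁻¹)) z = 0 := by
    intro t ht n hn hvn z hz
    have ht' := inv_mem ht
    have := perpTa hrk (t := t⁻¹) (hTC _ ht') (fun y hy => ht'.2 y hy) hn hvn z hz
    rwa [inv_inv] at this
  have hadd : ∀ n ∈ nc v₁ {v₂}, ∀ n' ∈ nc v₁ {v₂}, Bg (cz v₁) v₂ v₂ n = 0 → Bg (cz v₁) v₂ v₂ n' = 0 →
      ∀ t ∈ A, ∀ t' ∈ A, F n n' (t * t') = F n n' t + F n n' t' := by
    intro n hn n' hn' hvn hvn' t ht t' ht'
    have e : n'⁻¹ * (t * t' * n' * (t * t')⁻¹) =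
        (n'⁻¹ * (t * n' * t⁻¹)) * (t * (n'⁻¹ * (t' * n' * t'⁻¹)) * t⁻¹) := by group
    have hw := wN t' ht' n' hn'
    have hw1 := wN t ht n' hn'
    have hti := inv_mem ht
    have hw2 := wN _ hti n hn
    have e2 : t⁻¹ * n * t = n * (n⁻¹ * (t⁻¹ * n * t⁻¹⁻¹)) := by group
    show Bg (cz v₁) v₂ n (n'⁻¹ * (t * t' * n' * (t * t')⁻¹)) = _
    rw [e, o.add n hn _ hw1 _ (o.nor t (hTC t ht) _ hw), hs.inv_right (hTC t ht) hn hw, e2,
      o.add_left hn hw2 hw, iso_perp hrk h4 hw2 hw (wp _ hti n hn hvn) (wp t' ht' n' hn' hvn'), add_zero]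
  -- `Q₁`, `Q₂`
  have hQ1 : ∀ n ∈ nc v₁ {v₂}, ∀ n' ∈ nc v₁ {v₂}, ∀ t ∈ ZN.o2 (cz v₁), F n n' t = 0 := by
    intro n hn n' hn' t ht
    show Bg (cz v₁) v₂ n (n'⁻¹ * (t * n' * t⁻¹)) = 0
    rw [h.Q_N1 ht hn', mul_inv_cancel_right, inv_mul_cancel]
    exact GOrth.Bone
  have hc2 : ∀ n ∈ nc v₁ {v₂}, Bg (cz v₁) v₂ v₂ n = 0 → ∀ t ∈ ZN.o2 (cz v₂),
      t * n * t⁻¹ = n ∨ t * n * t⁻¹ = n * v₂ := by
    intro n hn hvn t ht
    have hnt : t * v₂ = v₂ * t := mem_cz.1 (o2_le _ ht)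
    have hnv : n * v₂ = v₂ * n := hs.mc hn hvN
    rcases A_conj h.symm o (a := n) ⟨hn, hvn⟩ ht with h5 | h5
    · left
      have h6 : n * t = t * n := mul_inv_eq_iff_eq_mul.1 h5
      rw [← h6, mul_inv_cancel_right]
    · right
      have h6 : n * t = v₂ * t * n := mul_inv_eq_iff_eq_mul.1 h5
      have h7 : t * n = n * v₂ * t := by
        calc t * n = v₂ * v₂ * t * n := by rw [h.vq2, one_mul]
          _ = v₂ * (v₂ * t * n) := by group
          _ = v₂ * n * t := by rw [← h6]; group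
          _ = n * v₂ * t := by rw [hnv]
      rw [h7, mul_inv_cancel_right]
  have hQ2 : ∀ n ∈ nc v₁ {v₂}, ∀ n' ∈ nc v₁ {v₂}, Bg (cz v₁) v₂ v₂ n = 0 → Bg (cz v₁) v₂ v₂ n' = 0 →
      ∀ t ∈ ZN.o2 (cz v₂), F n n' t = 0 := by
    intro n hn n' hn' hvn hvn' t ht
    show Bg (cz v₁) v₂ n (n'⁻¹ * (t * n' * t⁻¹)) = 0
    rcases hc2 n' hn' hvn' t ht with h5 | h5
    · rw [h5, inv_mul_cancel]; exact GOrth.Bone
    · rw [h5, inv_mul_cancel_left, o.comm n hn v₂ hvN, hvn]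
  have hQA : ZN.o2 (cz v₁) ⊔ ZN.o2 (cz v₂) ≤ A := by
    refine sup_le (fun t ht => ⟨h.Q_le ht, fun z hz => ?_⟩) (fun t ht => ⟨h.symm.Q_le ht, fun z hz => ?_⟩)
    · rw [h.Q_N1 ht (hRN hz), mul_inv_cancel_right, mul_inv_cancel]; exact one_mem _
    · rcases hc2 z (hRN hz) (P.rk.iso v₂ hvR z hz) t ht with h5 | h5
      · rw [h5, mul_inv_cancel]; exact one_mem _
      · rw [h5, hs.mc (hRN hz) hvN, mul_inv_cancel_right]; exact mem_zpowers _
  -- the values on the reflections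
  have hval : ∀ y ∈ R, y ≠ 1 → ∃ g ∈ A, ∀ n ∈ nc v₁ {v₂}, ∀ n' ∈ nc v₁ {v₂},
      F n n' g = Bg (cz v₁) v₂ y n * Bg (cz v₁) v₂ y n' := by
    intro y hy hy1
    obtain ⟨g, hg, hgn⟩ := tauR h hnl hI hl P hy hy1
    refine ⟨g, hg, fun n hn n' hn' => ?_⟩
    have hyN := hRN hy
    show Bg (cz v₁) v₂ n (n'⁻¹ * (g * n' * g⁻¹)) = _
    rcases hgn n' hn' with ⟨h5, h6⟩ | ⟨h5, h6⟩
    · rw [h6, inv_mul_cancel, h5, mul_zero]; exact GOrth.Bone
    · rw [h6, inv_mul_cancel_left, h5, mul_one, o.add n hn y hyN v₁ o.c_mem, o.comm n hn v₁ o.c_mem, o.Bc n hn,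
        add_zero, o.comm n hn y hyN]
  obtain ⟨g₁, hg₁, hf₁⟩ := hval u huR hu1
  obtain ⟨g₂, hg₂, hf₂⟩ := hval x hx fun e => hx2 (e ▸ one_mem _)
  obtain ⟨g₃, hg₃, hf₃⟩ := hval (x * u) (mul_mem hx huR) fun e => hx2 (eqv _ _ huN e ▸ hu)
  have xua : Bg (cz v₁) v₂ (x * u) a = 1 := by rw [o.add_left hxN huN ha, xa, ua]; decide
  have xub : Bg (cz v₁) v₂ (x * u) b = 1 := by rw [o.add_left hxN huN hb, xb, ub]; decide
  -- `f₂₁`
  have ad1 := hadd b hb a ha vb va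
  have c1 := card_ker' (A := A) (f := F b a) ad1 ⟨g₃, hg₃, by rw [hf₃ b hb a ha, xua, xub]; decide⟩
  set K₁ := ker A (F b a) ad1 with hK₁
  have ad2 : ∀ t ∈ K₁, ∀ t' ∈ K₁, F a a (t * t') = F a a t + F a a t' := fun t ht t' ht' =>
    hadd a ha a ha va va t ht.1 t' ht'.1
  have c2 := card_ker' (A := K₁) (f := F a a) ad2 ⟨g₁, ⟨hg₁, by rw [hf₁ b hb a ha, ub, zero_mul]⟩, by
    rw [hf₁ a ha a ha, ua]; decide⟩
  set K₂ := ker K₁ (F a a) ad2 with hK₂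
  have ad3 : ∀ t ∈ K₂, ∀ t' ∈ K₂, F b b (t * t') = F b b t + F b b t' := fun t ht t' ht' =>
    hadd b hb b hb vb vb t ht.1.1 t' ht'.1.1
  have c3 := card_ker' (A := K₂) (f := F b b) ad3 ⟨g₂, ⟨⟨hg₂, by rw [hf₂ b hb a ha, xa, mul_zero]⟩, by
    rw [hf₂ a ha a ha, xa, zero_mul]⟩, by rw [hf₂ b hb b hb, xb]; decide⟩
  set K₃ := ker K₂ (F b b) ad3 with hK₃
  have hle : ZN.o2 (cz v₁) ⊔ ZN.o2 (cz v₂) ≤ K₃ := by
    refine sup_le (fun t ht => ?_) (fun t ht => ?_)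
    · exact ⟨⟨⟨hQA (mem_sup_left ht), hQ1 b hb a ha t ht⟩, hQ1 a ha a ha t ht⟩, hQ1 b hb b hb t ht⟩
    · exact ⟨⟨⟨hQA (mem_sup_right ht), hQ2 b hb a ha vb va t ht⟩, hQ2 a ha a ha va va t ht⟩,
        hQ2 b hb b hb vb vb t ht⟩
  have c4 := Subgroup.card_le_of_le hle
  have c5 := card_QQ h hI
  have c6 : 2 * Nat.card A ≤ Nat.card T := two_mul_card_le hAT (Ta_ne h hnl hI hl P hu hu1 huv hx hx2)
  omega

end last

end Cfsg.Agent.Omega.IId.Pf.Card

end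

section


/-!
# The order of the orthogonal module when `m₃ ≤ 2`

helper304 (helper612 #14107 (6)).  `GOrth.exists_plane`: hyperbolic pairs split off; `GOrth.card_le`:
`m₃(G) ≤ 2` implies `|N| ≤ 32`; `GOrth.le_card`: `32 ≤ |N|` if `N` contains a totally singular four-group;
`One.card_N1`: `|N₁| = 32` for the configuration `One` with `[N₁, N₂] ≠ 1` and `m₃(G) ≤ 2`.
-/

set_option autoImplicit false
set_option linter.dupNamespace false

namespace Cfsg.Agent.Omega.TV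

open Subgroup

variable {G : Type*} [Group G]

namespace GOrth

variable {C N : Subgroup G} {r c : G} (h : GOrth C N r c)

include h

theorem mcomm {x y : G} (hx : x ∈ N) (hy : y ∈ N) : x * y = y * x := EA.comm_of h.sq hx hy

/-- A vector or its product with `c` is singular. -/
theorem exists_sing {x : G} (hx : x ∈ N) : ∃ y ∈ N, Qg C r y = 0 ∧ (y = x ∨ y = x * c) := by
  rcases z2 (Qg C r x) with e | e
  · exact ⟨x, hx, e, Or.inl rfl⟩
  · refine ⟨x * c, N.mul_mem hx h.c_mem, ?_, Or.inr rfl⟩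
    rw [h.Qmulc hx, e]
    exact z2_add_self 1

theorem B_mulc {x y : G} (hx : x ∈ N) (hy : y ∈ N) : Bg C r x (y * c) = Bg C r x y := by
  rw [h.add x hx y hy c h.c_mem, h.comm x hx c h.c_mem, h.Bc x hx, add_zero]

theorem B_mulc' {x y : G} (hx : x ∈ N) (hy : y ∈ N) : Bg C r (x * c) y = Bg C r x y := by
  rw [h.comm _ (N.mul_mem hx h.c_mem) y hy, h.B_mulc hy hx, h.comm y hy x hx]

end GOrth

/-- A subgroup of `N` on which the form is nondegenerate modulo `⟨c⟩`. -/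
structure Good (C N : Subgroup G) (r c : G) (W : Subgroup G) : Prop where
  le : W ≤ N
  c_mem : c ∈ W
  rad : ∀ x ∈ W, (∀ y ∈ W, Bg C r x y = 0) → x = 1 ∨ x = c

namespace GOrth

variable {C N : Subgroup G} {r c : G} (h : GOrth C N r c)

include h

theorem good_self : Good C N r c N := ⟨le_rfl, h.c_mem, h.rad⟩

/-- A hyperbolic pair splits off. -/
theorem exists_plane [Finite G] {W : Subgroup G} (hW : Good C N r c W) (hc : 2 < Nat.card W) :
    ∃ a ∈ W, ∃ b ∈ W, Qg C r a = 0 ∧ Qg C r b = 0 ∧ Bg C r a b = 1 ∧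
      ∃ W' : Subgroup G, W' ≤ W ∧ Good C N r c W' ∧ (∀ x ∈ W', Bg C r a x = 0 ∧ Bg C r b x = 0) ∧
        Nat.card W = 4 * Nat.card W' := by
  classical
  -- a vector outside `⟨c⟩`
  obtain ⟨x, hx, hx1, hxc⟩ : ∃ x ∈ W, x ≠ 1 ∧ x ≠ c := by
    by_contra hcon
    push Not at hcon
    have h1 : (W : Set G) ⊆ (({1, c} : Finset G) : Set G) := by
      intro y hy
      by_cases hy1 : y = 1
      · simp [hy1]
      · simp [hcon y hy hy1]
    have h2 := Set.ncard_le_ncard h1 (Finset.finite_toSet _)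
    rw [Set.ncard_coe_finset] at h2
    have h3 : (W : Set G).ncard = Nat.card W := rfl
    have h4 : ({1, c} : Finset G).card ≤ 2 := Finset.card_le_two
    omega
  obtain ⟨y, hy, hxy⟩ : ∃ y ∈ W, Bg C r x y = 1 := by
    by_contra hcon
    push Not at hcon
    rcases hW.rad x hx (fun y hy => z2_ne_one (hcon y hy)) with e | e
    · exact hx1 e
    · exact hxc e
  obtain ⟨a, -, ha0, ha⟩ := h.exists_sing (hW.le hx)
  obtain ⟨b, -, hb0, hb⟩ := h.exists_sing (hW.le hy)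
  have haW : a ∈ W := by
    rcases ha with rfl | rfl
    · exact hx
    · exact W.mul_mem hx hW.c_mem
  have hbW : b ∈ W := by
    rcases hb with rfl | rfl
    · exact hy
    · exact W.mul_mem hy hW.c_mem
  have hab : Bg C r a b = 1 := by
    rcases ha with rfl | rfl <;> rcases hb with rfl | rfl
    · exact hxy
    · rw [h.B_mulc (hW.le hx) (hW.le hy), hxy]
    · rw [h.B_mulc' (hW.le hx) (hW.le hy), hxy]
    · rw [h.B_mulc' (hW.le hx) (N.mul_mem (hW.le hy) h.c_mem), h.B_mulc (hW.le hx) (hW.le hy), hxy]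
  have hba : Bg C r b a = 1 := by rw [h.comm b (hW.le hbW) a (hW.le haW), hab]
  have haa := h.self a (hW.le haW)
  have hbb := h.self b (hW.le hbW)
  -- the orthogonal complement
  let χ : W →* Multiplicative (ZMod 2 × ZMod 2) :=
    { toFun := fun w => Multiplicative.ofAdd (Bg C r a w, Bg C r b w)
      map_one' := by
        show Multiplicative.ofAdd (Bg C r a ((1 : W) : G), Bg C r b ((1 : W) : G)) = 1
        rw [Subgroup.coe_one, GOrth.Bone, GOrth.Bone]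
        rfl
      map_mul' := by
        intro u v
        show Multiplicative.ofAdd (Bg C r a ((u * v : W) : G), Bg C r b ((u * v : W) : G)) = _
        rw [Subgroup.coe_mul, h.add a (hW.le haW) u (hW.le u.2) v (hW.le v.2),
          h.add b (hW.le hbW) u (hW.le u.2) v (hW.le v.2)]
        rfl }
  have hχ : ∀ w : W, w ∈ χ.ker ↔ Bg C r a w = 0 ∧ Bg C r b w = 0 := by
    intro w
    rw [MonoidHom.mem_ker]
    show Multiplicative.ofAdd (Bg C r a (w : G), Bg C r b (w : G)) = Multiplicative.ofAdd 0 ↔ _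
    rw [Multiplicative.ofAdd.injective.eq_iff]
    exact Prod.mk_eq_zero
  refine ⟨a, haW, b, hbW, ha0, hb0, hab, χ.ker.map W.subtype, ?_, ⟨?_, ?_, ?_⟩, ?_, ?_⟩
  · rintro _ ⟨w, _, rfl⟩
    exact w.2
  · rintro _ ⟨w, _, rfl⟩
    exact hW.le w.2
  · refine ⟨⟨c, hW.c_mem⟩, (hχ _).2 ⟨?_, ?_⟩, rfl⟩
    · show Bg C r a c = 0
      rw [h.comm a (hW.le haW) c h.c_mem, h.Bc a (hW.le haW)]
    · show Bg C r b c = 0
      rw [h.comm b (hW.le hbW) c h.c_mem, h.Bc b (hW.le hbW)]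
  · rintro _ ⟨w, hw, rfl⟩ hall
    obtain ⟨hw1, hw2⟩ := (hχ w).1 hw
    refine hW.rad w w.2 fun y hy => ?_
    -- adjust `y`
    have key : ∀ y' ∈ W, Bg C r a y' = 0 → Bg C r b y' = 0 → Bg C r w y' = 0 := by
      intro y' hy' e1 e2
      exact hall y' ⟨⟨y', hy'⟩, (hχ _).2 ⟨e1, e2⟩, rfl⟩
    have hwa : Bg C r w a = 0 := by rw [h.comm _ (hW.le w.2) a (hW.le haW), hw1]
    have hwb : Bg C r w b = 0 := by rw [h.comm _ (hW.le w.2) b (hW.le hbW), hw2]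
    have hyN := hW.le hy
    have haN := hW.le haW
    have hbN := hW.le hbW
    rcases z2 (Bg C r a y) with e1 | e1 <;> rcases z2 (Bg C r b y) with e2 | e2
    · exact key y hy e1 e2
    · -- add `a`
      have e3 := key (y * a) (W.mul_mem hy haW) (by rw [h.add a haN y hyN a haN, e1, haa, add_zero])
        (by rw [h.add b hbN y hyN a haN, e2, hba]; exact z2_add_self 1)
      rwa [h.add _ (hW.le w.2) y hyN a haN, hwa, add_zero] at e3
    · have e3 := key (y * b) (W.mul_mem hy hbW)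
        (by rw [h.add a haN y hyN b hbN, e1, hab]; exact z2_add_self 1)
        (by rw [h.add b hbN y hyN b hbN, e2, hbb, add_zero])
      rwa [h.add _ (hW.le w.2) y hyN b hbN, hwb, add_zero] at e3
    · have e3 := key (y * (a * b)) (W.mul_mem hy (W.mul_mem haW hbW))
        (by rw [h.add a haN y hyN _ (N.mul_mem haN hbN), h.add a haN a haN b hbN, e1, haa, hab, zero_add]
            exact z2_add_self 1)
        (by rw [h.add b hbN y hyN _ (N.mul_mem haN hbN), h.add b hbN a haN b hbN, e2, hba, hbb, add_zero]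
            exact z2_add_self 1)
      rwa [h.add _ (hW.le w.2) y hyN _ (N.mul_mem haN hbN), h.add _ (hW.le w.2) a haN b hbN, hwa, hwb,
        add_zero, add_zero] at e3
  · rintro _ ⟨w, hw, rfl⟩
    exact (hχ w).1 hw
  · have h1 : Nat.card (χ.ker.map W.subtype) = Nat.card χ.ker := by
      rw [Subgroup.card_map_of_injective W.subtype_injective]
    have h2 : Nat.card χ.ker * χ.ker.index = Nat.card W := Subgroup.card_mul_index _
    have h3 : χ.ker.index = 4 := by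
      have h5 : χ.range = ⊤ := by
        rw [eq_top_iff]
        have ea : χ ⟨a, haW⟩ = Multiplicative.ofAdd (0, 1) := by
          show Multiplicative.ofAdd (Bg C r a a, Bg C r b a) = _
          rw [haa, hba]
        have eb : χ ⟨b, hbW⟩ = Multiplicative.ofAdd (1, 0) := by
          show Multiplicative.ofAdd (Bg C r a b, Bg C r b b) = _
          rw [hab, hbb]
        rintro x -
        obtain ⟨⟨u, v⟩, rfl⟩ := Multiplicative.ofAdd.surjective x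
        have hm : ∀ u v : ZMod 2, Multiplicative.ofAdd (u, v) ∈ χ.range := by
          intro u v
          rcases z2 u with rfl | rfl <;> rcases z2 v with rfl | rfl
          · exact one_mem _
          · exact ⟨_, ea⟩
          · exact ⟨_, eb⟩
          · refine ⟨⟨b, hbW⟩ * ⟨a, haW⟩, ?_⟩
            rw [map_mul, ea, eb, ← ofAdd_add, Prod.mk_add_mk, add_zero, zero_add]
        exact hm u v
      rw [Subgroup.index_ker, h5, Subgroup.card_top, Nat.card_congr Multiplicative.toAdd, Nat.card_prod,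
        Nat.card_zmod]
    rw [h1, ← h2, h3, mul_comm]

omit h in
/-- A triple of singular vectors in a hyperbolic plane. -/
structure Tri (C N : Subgroup G) (r c : G) (w : Fin 3 → G) : Prop where
  mem : ∀ l, w l ∈ N
  Q : ∀ l, Qg C r (w l) = 0
  B : ∀ l l', l ≠ l' → Bg C r (w l) (w l') = 1
  rel : ∀ j k l, j ≠ k → j ≠ l → k ≠ l → w j * (w l * c) = w k

theorem tri_of {a b : G} (ha : a ∈ N) (hb : b ∈ N) (ha0 : Qg C r a = 0) (hb0 : Qg C r b = 0)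
    (hab : Bg C r a b = 1) : Tri C N r c ![a, b, a * b * c] := by
  have hba : Bg C r b a = 1 := by rw [h.comm b hb a ha, hab]
  have haa := h.self a ha
  have hbb := h.self b hb
  have habN := N.mul_mem ha hb
  have hQ3 : Qg C r (a * b * c) = 0 := by
    rw [h.Qmulc habN, Q_mul, ha0, hb0, hab, zero_add, zero_add]
    exact z2_add_self 1
  have h1 : Bg C r a (a * b * c) = 1 := by
    rw [h.B_mulc ha habN, h.add a ha a ha b hb, haa, hab, zero_add]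
  have h2 : Bg C r b (a * b * c) = 1 := by
    rw [h.B_mulc hb habN, h.add b hb a ha b hb, hba, hbb, add_zero]
  have h1' : Bg C r (a * b * c) a = 1 := by
    rw [h.comm _ (N.mul_mem habN h.c_mem) a ha, h1]
  have h2' : Bg C r (a * b * c) b = 1 := by
    rw [h.comm _ (N.mul_mem habN h.c_mem) b hb, h2]
  have ea := h.sq a ha
  have eb := h.sq b hb
  have ec := h.sq c h.c_mem
  have cab := h.mcomm ha hb
  have cac := h.mcomm ha h.c_mem
  have cbc := h.mcomm hb h.c_mem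
  have r1 : a * (b * c) = a * b * c := (mul_assoc _ _ _).symm
  have r2 : b * (a * c) = a * b * c := by rw [← mul_assoc, ← cab]
  have r3 : a * (a * b * c * c) = b := by
    calc a * (a * b * c * c) = (a * a) * b * (c * c) := by group
      _ = b := by rw [ea, ec, one_mul, mul_one]
  have r4 : b * (a * b * c * c) = a := by
    calc b * (a * b * c * c) = (b * a) * b * (c * c) := by group
      _ = a * (b * b) * (c * c) := by rw [← cab]; group
      _ = a := by rw [eb, ec, mul_one, mul_one]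
  have r5 : a * b * c * (a * c) = b := by
    calc a * b * c * (a * c) = a * b * (c * a) * c := by group
      _ = (a * b) * (a * c) * c := by rw [← cac]
      _ = (b * a) * (a * c) * c := by rw [cab]
      _ = b * (a * a) * (c * c) := by group
      _ = b := by rw [ea, ec, mul_one, mul_one]
  have r6 : a * b * c * (b * c) = a := by
    calc a * b * c * (b * c) = a * b * (c * b) * c := by group
      _ = a * b * (b * c) * c := by rw [← cbc]
      _ = a * (b * b) * (c * c) := by group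
      _ = a := by rw [eb, ec, mul_one, mul_one]
  refine ⟨?_, ?_, ?_, ?_⟩
  · intro l
    fin_cases l
    · exact ha
    · exact hb
    · exact N.mul_mem habN h.c_mem
  · intro l
    fin_cases l
    · exact ha0
    · exact hb0
    · exact hQ3
  · intro l l' hne
    fin_cases l <;> fin_cases l' <;> first | exact absurd rfl hne | assumption
  · intro j k l h1 h2 h3
    fin_cases j <;> fin_cases k <;> fin_cases l <;>
      first | exact absurd rfl h1 | exact absurd rfl h2 | exact absurd rfl h3 | assumption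

omit h in
theorem tri_ne_one {w : Fin 3 → G} (hw : Tri C N r c w) (l : Fin 3) : w l ≠ 1 := by
  obtain ⟨l', hl'⟩ : ∃ l' : Fin 3, l' ≠ l := ⟨l + 1, by fin_cases l <;> decide⟩
  intro e
  have h1 := hw.B l' l hl'
  rw [e, GOrth.Bone] at h1
  exact zero_ne_one h1

theorem tri_inj {w : Fin 3 → G} (hw : Tri C N r c w) : Function.Injective w := by
  intro l l' e
  by_contra hne
  have h1 := hw.B l l' hne
  rw [e, h.self _ (hw.mem l')] at h1
  exact zero_ne_one h1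

/-- The 3-rank is at least the number of mutually orthogonal triples. -/
theorem rank_of_tri [Finite G] {n m : ℕ} (w : Fin n → Fin 3 → G) (hw : ∀ i, Tri C N r c (w i))
    (ho : ∀ i i', i ≠ i' → ∀ l l', Bg C r (w i l) (w i' l') = 0) (hr : PRankLE 3 m G) : n ≤ m := by
  refine IId.RankPlanes.rank_of_triples w (fun i => h.tri_inj (hw i)) ?_ hr
  intro i j k hjk
  -- the third index
  obtain ⟨l, hlj, hlk, hall⟩ : ∃ l : Fin 3, l ≠ j ∧ l ≠ k ∧ ∀ l' : Fin 3, l' = j ∨ l' = k ∨ l' = l := by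
    revert j k; decide
  obtain ⟨g, hg, hgn⟩ := h.refl (w i l) ((hw i).mem l) (tri_ne_one (hw i) l) ((hw i).Q l)
  have hmove : ∀ x ∈ N, Bg C r (w i l) x = 1 → g * x * g⁻¹ = x * (w i l * c) := by
    intro x hx e
    rcases hgn x hx with ⟨e1, -⟩ | ⟨-, e1⟩
    · rw [e] at e1; exact absurd e1 one_ne_zero
    · exact e1
  have hstay : ∀ x ∈ N, Bg C r (w i l) x = 0 → g * x * g⁻¹ = x := by
    intro x hx e
    rcases hgn x hx with ⟨-, e1⟩ | ⟨e1, -⟩
    · exact e1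
    · rw [e] at e1; exact absurd e1 zero_ne_one
  refine ⟨g, ?_, ?_⟩
  · intro l'
    rcases hall l' with rfl | rfl | rfl
    · rw [Equiv.swap_apply_left, hmove _ ((hw i).mem _) ((hw i).B _ _ hlj)]
      exact (hw i).rel _ _ _ hjk hlj.symm hlk.symm
    · rw [Equiv.swap_apply_right, hmove _ ((hw i).mem _) ((hw i).B _ _ hlk)]
      exact (hw i).rel _ _ _ hjk.symm hlk.symm hlj.symm
    · rw [Equiv.swap_apply_of_ne_of_ne hlj hlk]
      exact hstay _ ((hw i).mem _) (h.self _ ((hw i).mem _))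
  · intro i' hi' l'
    exact hstay _ ((hw i').mem _) (ho i i' hi'.symm _ _)

/-- **`m₃(G) ≤ 2` implies `|N| ≤ 32`.** -/
theorem card_le [Finite G] (hr : PRankLE 3 2 G) : Nat.card N ≤ 32 := by
  by_contra hcon
  push Not at hcon
  obtain ⟨a₁, ha₁, b₁, hb₁, qa₁, qb₁, ab₁, W₁, hW₁, gW₁, o₁, n₁⟩ := h.exists_plane h.good_self (by omega)
  obtain ⟨a₂, ha₂, b₂, hb₂, qa₂, qb₂, ab₂, W₂, hW₂, gW₂, o₂, n₂⟩ := h.exists_plane gW₁ (by omega)
  obtain ⟨a₃, ha₃, b₃, hb₃, qa₃, qb₃, ab₃, -⟩ := h.exists_plane gW₂ (by omega)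
  have ha₂' := hW₁ ha₂
  have hb₂' := hW₁ hb₂
  have ha₃' := hW₁ (hW₂ ha₃)
  have hb₃' := hW₁ (hW₂ hb₃)
  have t₁ := h.tri_of ha₁ hb₁ qa₁ qb₁ ab₁
  have t₂ := h.tri_of ha₂' hb₂' qa₂ qb₂ ab₂
  have t₃ := h.tri_of ha₃' hb₃' qa₃ qb₃ ab₃
  -- orthogonality
  have orth : ∀ {a b a' b' : G}, a ∈ N → b ∈ N → a' ∈ N → b' ∈ N → Bg C r a a' = 0 ∧ Bg C r b a' = 0 →
      Bg C r a b' = 0 ∧ Bg C r b b' = 0 →
      ∀ l l', Bg C r ((![a, b, a * b * c] : Fin 3 → G) l) ((![a', b', a' * b' * c] : Fin 3 → G) l') = 0 := by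
    intro a b a' b' ha hb ha' hb' ⟨e1, e2⟩ ⟨e3, e4⟩ l l'
    have key : ∀ x ∈ N, Bg C r x a' = 0 → Bg C r x b' = 0 →
        Bg C r x ((![a', b', a' * b' * c] : Fin 3 → G) l') = 0 := by
      intro x hx f1 f2
      have f3 : Bg C r x (a' * b' * c) = 0 := by
        rw [h.B_mulc hx (N.mul_mem ha' hb'), h.add x hx a' ha' b' hb', f1, f2, add_zero]
      fin_cases l' <;> assumption
    have g1 := key a ha e1 e3
    have g2 := key b hb e2 e4
    have g3 := key (a * b * c) (N.mul_mem (N.mul_mem ha hb) h.c_mem)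
      (by rw [h.B_mulc' (N.mul_mem ha hb) ha', h.add_left ha hb ha', e1, e2, add_zero])
      (by rw [h.B_mulc' (N.mul_mem ha hb) hb', h.add_left ha hb hb', e3, e4, add_zero])
    fin_cases l <;> assumption
  have o12 := orth ha₁ hb₁ ha₂' hb₂' (o₁ _ ha₂) (o₁ _ hb₂)
  have o13 := orth ha₁ hb₁ ha₃' hb₃' (o₁ _ (hW₂ ha₃)) (o₁ _ (hW₂ hb₃))
  have o23 := orth ha₂' hb₂' ha₃' hb₃' (o₂ _ ha₃) (o₂ _ hb₃)
  have hsym : ∀ {w w' : Fin 3 → G}, Tri C N r c w → Tri C N r c w' →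
      (∀ l l', Bg C r (w l) (w' l') = 0) → ∀ l l', Bg C r (w' l) (w l') = 0 := by
    intro w w' hw hw' ho l l'
    rw [h.comm _ (hw'.mem l) _ (hw.mem l'), ho]
  have h3 : 3 ≤ 2 := by
    refine h.rank_of_tri (n := 3) (m := 2)
      ![![a₁, b₁, a₁ * b₁ * c], ![a₂, b₂, a₂ * b₂ * c], ![a₃, b₃, a₃ * b₃ * c]] ?_ ?_ hr
    · intro i
      fin_cases i
      · exact t₁
      · exact t₂
      · exact t₃
    · intro i i' hne
      fin_cases i <;> fin_cases i'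
      · exact absurd rfl hne
      · exact o12
      · exact o13
      · exact hsym t₁ t₂ o12
      · exact absurd rfl hne
      · exact o23
      · exact hsym t₁ t₃ o13
      · exact hsym t₂ t₃ o23
      · exact absurd rfl hne
  omega

/-- The order of a good subspace. -/
theorem card_good [Finite G] : ∀ (m : ℕ) {W : Subgroup G}, Good C N r c W → Nat.card W ≤ m →
    ∃ k, Nat.card W = 2 * 4 ^ k := by
  classical
  intro m
  induction m with
  | zero =>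
    intro W _ hm
    have := Nat.card_pos (α := W)
    omega
  | succ m ih =>
    intro W hW hm
    by_cases hc : 2 < Nat.card W
    · obtain ⟨a, _, b, _, _, _, _, W', _, gW', _, hn⟩ := h.exists_plane hW hc
      have := Nat.card_pos (α := W')
      obtain ⟨k, hk⟩ := ih gW' (by omega)
      exact ⟨k + 1, by rw [hn, hk, pow_succ]; ring⟩
    · refine ⟨0, ?_⟩
      rw [pow_zero, mul_one]
      refine le_antisymm (by omega) ?_
      have hc1 : c ≠ 1 := by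
        intro e
        have := h.Qc
        rw [e, Qg_one] at this
        exact zero_ne_one this
      have h1 : (({1, c} : Finset G) : Set G) ⊆ (W : Set G) := by
        intro y hy
        rcases Finset.mem_insert.1 (Finset.mem_coe.1 hy) with rfl | hy
        · exact W.one_mem
        · rw [Finset.mem_singleton.1 hy]
          exact hW.c_mem
      have h2 := Set.ncard_le_ncard h1 (Set.toFinite _)
      rw [Set.ncard_coe_finset, Finset.card_pair hc1.symm] at h2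
      exact h2

/-- `|N| = 2^{2n+1}`. -/
theorem exists_card [Finite G] : ∃ k, Nat.card N = 2 * 4 ^ k := h.card_good _ h.good_self le_rfl

/-- `32 ≤ |N|` if `N` contains a totally singular four-group. -/
theorem le_card [Finite G] {V : Subgroup G} (hV : V ≤ N) (hV4 : Nat.card V = 4)
    (hQ : ∀ v ∈ V, Qg C r v = 0) : 32 ≤ Nat.card N := by
  classical
  have h8 : 8 < Nat.card N := by
    by_contra hcon
    push Not at hcon
    -- `N = V × ⟨c⟩`
    let F : V × Bool → N := fun x => ⟨(x.1 : G) * (if x.2 then c else 1), N.mul_mem (hV x.1.2) (by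
      split_ifs
      · exact h.c_mem
      · exact N.one_mem)⟩
    have hFQ : ∀ x : V × Bool, Qg C r (F x : G) = if x.2 then 1 else 0 := by
      rintro ⟨v, e⟩
      cases e
      · show Qg C r ((v : G) * 1) = 0
        rw [mul_one]
        exact hQ v v.2
      · show Qg C r ((v : G) * c) = 1
        rw [h.Qmulc (hV v.2), hQ v v.2, zero_add]
    have hinj : Function.Injective F := by
      rintro ⟨v, e⟩ ⟨v', e'⟩ he
      have h1 := hFQ (v, e)
      have h2 := hFQ (v', e')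
      rw [he] at h1
      rw [h1] at h2
      have h3 : e = e' := by
        cases e <;> cases e' <;> first | rfl | simp at h2
      subst h3
      have h4 := congrArg Subtype.val he
      have h5 : (v : G) = v' := mul_right_cancel (show (v : G) * (if e then c else 1) =
        (v' : G) * (if e then c else 1) from h4)
      rw [Subtype.ext h5]
    have hcardF : Nat.card (V × Bool) = 8 := by
      rw [Nat.card_prod, hV4, Nat.card_eq_fintype_card, Fintype.card_bool]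
    have hbij := hinj.bijective_of_nat_card_le (by rw [hcardF]; exact hcon)
    -- the form vanishes
    obtain ⟨v, hv, hv1⟩ : ∃ v ∈ V, v ≠ 1 := by
      by_contra hc
      push Not at hc
      have : V = ⊥ := (Subgroup.eq_bot_iff_forall V).2 hc
      rw [this, Subgroup.card_bot] at hV4
      omega
    have hB : ∀ u ∈ V, Bg C r v u = 0 := by
      intro u hu
      unfold Bg
      rw [hQ _ (V.mul_mem hv hu), hQ v hv, hQ u hu, add_zero, add_zero]
    have hrad : ∀ y ∈ N, Bg C r v y = 0 := by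
      intro y hy
      obtain ⟨⟨u, e⟩, he⟩ := hbij.2 ⟨y, hy⟩
      have h1 : (u : G) * (if e then c else 1) = y := congrArg Subtype.val he
      rw [← h1]
      cases e
      · show Bg C r v ((u : G) * 1) = 0
        rw [mul_one]
        exact hB u u.2
      · show Bg C r v ((u : G) * c) = 0
        rw [h.B_mulc (hV hv) (hV u.2)]
        exact hB u u.2
    rcases h.rad v (hV hv) hrad with e | e
    · exact hv1 e
    · have h1 := hQ v hv
      rw [e, h.Qc] at h1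
      exact one_ne_zero h1
  obtain ⟨k, hk⟩ := h.exists_card
  have hk2 : 2 ≤ k := by
    by_contra hcon
    have : k = 0 ∨ k = 1 := by omega
    rcases this with rfl | rfl
    · rw [hk] at h8; norm_num at h8
    · rw [hk] at h8; norm_num at h8
  rw [hk]
  calc 32 = 2 * 4 ^ 2 := by norm_num
    _ ≤ 2 * 4 ^ k := Nat.mul_le_mul_left 2 (Nat.pow_le_pow_right (by norm_num) hk2)

end GOrth

end Cfsg.Agent.Omega.TV

namespace Cfsg.Agent.Omega.IId.One

open Subgroup Cfsg Cfsg.Agent.Omega.TV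

universe u

variable {G : Type u} [Group G] [Finite G] {T V₁ V₂ L₁ L₂ : Subgroup G} {v₁ v₂ s : G}

/-- **`|N₁| = 32`** if `[N₁, N₂] ≠ 1` and `m₃(G) ≤ 2`. -/
theorem One.card_N1 (h : One T V₁ V₂ L₁ L₂ v₁ v₂ s)
    (hI : ∃ x ∈ nc v₁ {v₂}, ∃ y ∈ nc v₂ {v₁}, x * y ≠ y * x) (hr : PRankLE 3 2 G) :
    Nat.card (nc v₁ {v₂}) = 32 :=
  le_antisymm ((h.orth hI).card_le hr) ((h.orth hI).le_card h.V2_le_N1 h.card2 fun _ hv => h.Q_V2 hv)

/-- `|N₁| = 2^{2n+1}`, `n ≥ 2`. -/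
theorem One.exists_card_N1 (h : One T V₁ V₂ L₁ L₂ v₁ v₂ s)
    (hI : ∃ x ∈ nc v₁ {v₂}, ∃ y ∈ nc v₂ {v₁}, x * y ≠ y * x) :
    ∃ n, 2 ≤ n ∧ Nat.card (nc v₁ {v₂}) = 2 * 4 ^ n := by
  obtain ⟨n, hn⟩ := (h.orth hI).exists_card
  refine ⟨n, ?_, hn⟩
  have h1 := (h.orth hI).le_card h.V2_le_N1 h.card2 fun _ hv => h.Q_V2 hv
  by_contra hcon
  have : n = 0 ∨ n = 1 := by omega
  rcases this with rfl | rfl
  · rw [hn] at h1; norm_num at h1
  · rw [hn] at h1; norm_num at h1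

end Cfsg.Agent.Omega.IId.One

end

end

-- merged: Cfsg.Agent.Mrg.Omega.IId.Pf.Idx
section

section


/-!
# II.d, CASE 1, `q = 2`, case B: the minimal parabolics

helper310.  `PE v V₁ V₂ = C_G(v) ∩ N(V₁) ∩ N(V₂)`, `PM v₁ v₂ V = C_G(v₁) ∩ C_G(v₂) ∩ N(V)`; the indices of `T` are 3, and
they generate `⟨C₁, C₂⟩`.
-/

set_option autoImplicit false
set_option linter.unusedSectionVars false
set_option linter.unusedVariables false

namespace Cfsg.Agent.Omega.IId.Pf.Idx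

open Cfsg.Agent.Omega.TV hiding z2
open Subgroup Cfsg Cfsg.Agent.ZN Cfsg.Agent.Omega.IId.PlaneSy Cfsg.Agent.Omega.IId.PlaneRk
open Cfsg.Agent.Omega.IId.PlaneF Cfsg.Agent.Omega.IId.PlaneOf
open Cfsg.Agent.Omega.IId.One Cfsg.Agent.Omega.IId.SpSide
open Cfsg.Agent.Omega.MinPar
open Cfsg.Agent.Omega.NoFF.Basic
open Cfsg.Agent.Omega.IId.Pf.Rad Cfsg.Agent.Omega.IId.Pf.Par
open Cfsg.Agent.Omega.IId.Two (le_normalizer_of)
open scoped Pointwise commutatorElement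

universe u

variable {G : Type u} [Group G]

/-- Orbit-stabiliser. -/
theorem relIndex_orbit {α : Type*} {T P : Subgroup G} (φ : G → α) (Ω : Set α)
    (hT : ∀ x ∈ P, ∀ y ∈ P, φ x = φ y ↔ x⁻¹ * y ∈ T) (hmem : ∀ x ∈ P, φ x ∈ Ω)
    (hsur : ∀ ω ∈ Ω, ∃ x ∈ P, φ x = ω) : T.relIndex P = Ω.ncard := by
  have h1 : Set.range (fun a : P ⧸ T.subgroupOf P => φ (a.out : P)) = Ω := by
    ext ω
    constructor
    · rintro ⟨a, rfl⟩
      exact hmem _ (a.out : P).2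
    · intro hω
      obtain ⟨x, hx, rfl⟩ := hsur ω hω
      refine ⟨((⟨x, hx⟩ : P) : P ⧸ T.subgroupOf P), ?_⟩
      show φ ((((⟨x, hx⟩ : P) : P ⧸ T.subgroupOf P).out : P) : G) = φ x
      rw [hT _ (Subtype.property _) _ hx]
      have h2 := QuotientGroup.out_eq' ((⟨x, hx⟩ : P) : P ⧸ T.subgroupOf P)
      rw [QuotientGroup.eq] at h2
      exact h2
  have h2 : Function.Injective (fun a : P ⧸ T.subgroupOf P => φ (a.out : P)) := by
    intro a b h3
    have h4 := (hT _ (a.out : P).2 _ (b.out : P).2).1 h3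
    rw [← QuotientGroup.out_eq' a, ← QuotientGroup.out_eq' b, QuotientGroup.eq]
    exact h4
  rw [← h1, Set.ncard_range_of_injective h2]
  rfl

/-- `|A ∖ {1}|` -/
theorem ncard_one [Finite G] (A : Subgroup G) : {x | x ∈ A ∧ x ≠ 1}.ncard + 1 = Nat.card A := by
  have h1 : (A : Set G) = insert 1 {x | x ∈ A ∧ x ≠ 1} := by
    ext x
    simp only [SetLike.mem_coe, Set.mem_insert_iff, Set.mem_ofPred_eq]
    constructor
    · intro hx
      by_cases h : x = 1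
      · exact Or.inl h
      · exact Or.inr ⟨hx, h⟩
    · rintro (rfl | h)
      · exact one_mem _
      · exact h.1
  have h2 : Nat.card A = (A : Set G).ncard := Nat.card_coe_set_eq _
  rw [h2, h1, Set.ncard_insert_of_notMem (by simp)]

theorem ncard_two [Finite G] {A : Subgroup G} {r : G} (hr : r ∈ A) (hr1 : r ≠ 1) :
    {x | x ∈ A ∧ x ≠ 1 ∧ x ≠ r}.ncard + 2 = Nat.card A := by
  have h1 : {x | x ∈ A ∧ x ≠ 1} = insert r {x | x ∈ A ∧ x ≠ 1 ∧ x ≠ r} := by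
    ext x
    simp only [Set.mem_insert_iff, Set.mem_ofPred_eq]
    constructor
    · rintro ⟨hx, h⟩
      by_cases h2 : x = r
      · exact Or.inl h2
      · exact Or.inr ⟨hx, h, h2⟩
    · rintro (rfl | h)
      · exact ⟨hr, hr1⟩
      · exact ⟨h.1, h.2.1⟩
  rw [← ncard_one A, h1, Set.ncard_insert_of_notMem (by simp)]

theorem conj_eq_iff {x y v : G} : x * v * x⁻¹ = y * v * y⁻¹ ↔ x⁻¹ * y ∈ cz v := by
  rw [mem_cz]
  constructor
  · intro h
    calc x⁻¹ * y * v = x⁻¹ * (y * v * y⁻¹) * y := by group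
      _ = v * (x⁻¹ * y) := by rw [← h]; group
  · intro h
    calc x * v * x⁻¹ = x * (v * (x⁻¹ * y)) * y⁻¹ := by group
      _ = y * v * y⁻¹ := by rw [← h]; group

/-- `C_G(v) ∩ N(V₁) ∩ N(V₂)` -/
def PE (v : G) (V₁ V₂ : Subgroup G) : Subgroup G := cz v ⊓ (normalizer (V₁ : Set G) ⊓ normalizer (V₂ : Set G))

/-- `C_G(v₁) ∩ C_G(v₂) ∩ N(V)` -/
def PM (v₁ v₂ : G) (V : Subgroup G) : Subgroup G := cz v₁ ⊓ cz v₂ ⊓ normalizer (V : Set G)

theorem mem_PE {v x : G} {V₁ V₂ : Subgroup G} :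
    x ∈ PE v V₁ V₂ ↔ x ∈ cz v ∧ x ∈ normalizer (V₁ : Set G) ∧ x ∈ normalizer (V₂ : Set G) := Iff.rfl

theorem mem_PM {v₁ v₂ x : G} {V : Subgroup G} :
    x ∈ PM v₁ v₂ V ↔ (x ∈ cz v₁ ∧ x ∈ cz v₂) ∧ x ∈ normalizer (V : Set G) := Iff.rfl

theorem PE_comm (v : G) (V₁ V₂ : Subgroup G) : PE v V₂ V₁ = PE v V₁ V₂ := by
  unfold PE; rw [inf_comm (normalizer (V₂ : Set G))]

theorem PM_comm (v₁ v₂ : G) (V : Subgroup G) : PM v₂ v₁ V = PM v₁ v₂ V := by
  unfold PM; rw [inf_comm (cz v₂)]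

section main

variable [Finite G] {T V₁ V₂ L₁ L₂ : Subgroup G} {v₁ v₂ s : G}

section base

variable (h : Base T V₁ V₂ L₁ L₂ v₁ v₂ s)
include h

omit [Finite G] in
theorem T_PE : T ≤ PE v₁ V₁ V₂ := le_inf h.T_le (le_inf h.T_norm1 h.T_norm2)

omit [Finite G] in
theorem T_PM : T ≤ PM v₁ v₂ V₁ := le_inf h.T_leM h.T_norm1

omit [Finite G] in
theorem L2_norm1 : L₂ ≤ normalizer (V₁ : Set G) := le_normalizer_of fun k hk v hv => by
  rw [h.L21 k hk v hv, mul_inv_cancel_right]; exact hv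

omit [Finite G] in
theorem L2_PE : L₂ ≤ PE v₁ V₁ V₂ := le_inf h.L2_le (le_inf (L2_norm1 h) h.L_norm2)

end base

variable (h : One T V₁ V₂ L₁ L₂ v₁ v₂ s) (hnl : NonLoc (cz v₁) (cz v₂))
  (hI : ∃ x ∈ nc v₁ {v₂}, ∃ y ∈ nc v₂ {v₁}, x * y ≠ y * x) {v' w l : G} (hl : l ∈ L₁)
  (P : Plane V₁ V₂ v₁ v₂ v' w l)

include h hnl hI hl P

theorem T_iff {x : G} : x ∈ T ↔ x ∈ cz v₁ ∧ x ∈ cz v₂ ∧ x ∈ normalizer (V₁ : Set G) ∧ x ∈ normalizer (V₂ : Set G) := by
  have e := mem_T h hnl hI hl P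
  have e2 : x ∈ T ↔ x ∈ cz v₁ ⊓ cz v₂ ⊓ normalizer (V₁ : Set G) ⊓ normalizer (V₂ : Set G) := by
    conv_lhs => rw [e]
  rw [e2]
  exact ⟨fun hx => ⟨hx.1.1.1, hx.1.1.2, hx.1.2, hx.2⟩, fun hx => ⟨⟨⟨hx.1, hx.2.1⟩, hx.2.2.1⟩, hx.2.2.2⟩⟩

/-- `|P₄ : T| = 3` -/
theorem idx_PE : T.relIndex (PE v₁ V₁ V₂) = 3 := by
  have h1 := relIndex_orbit (T := T) (P := PE v₁ V₁ V₂) (fun g => g * v₂ * g⁻¹) {x | x ∈ V₂ ∧ x ≠ 1} ?_ ?_ ?_
  · have h2 := ncard_one V₂
    rw [h.card2] at h2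
    omega
  · intro x hx y hy
    rw [conj_eq_iff, T_iff h hnl hI hl P]
    have hxy := mul_mem (inv_mem hx) hy
    exact ⟨fun e => ⟨hxy.1, e, hxy.2.1, hxy.2.2⟩, fun e => e.2.1⟩
  · intro x hx
    refine ⟨(mem_normalizer_iff.1 hx.2.2 _).1 h.vV2, fun e => h.v2 ?_⟩
    calc v₂ = x⁻¹ * (x * v₂ * x⁻¹) * x := by group
      _ = 1 := by rw [e]; group
  · rintro x ⟨hx, hx1⟩
    obtain ⟨k, hk, e⟩ := h.t2 v₂ h.vV2 h.v2 x hx hx1
    exact ⟨k, L2_PE h.toBase hk, e⟩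

/-- `N_M(R)` is transitive on `R ∖ ⟨v₂⟩`. -/
theorem move {u x : G} (hu : u ∈ V₂) (hu1 : u ≠ 1) (hur : u ≠ v₂) (hx : x ∈ RR v₁ v₂ l) (hx1 : x ≠ 1) (hxr : x ≠ v₂) :
    ∃ m ∈ PM v₁ v₂ V₁, m * u * m⁻¹ = x := by
  have huR := P.V2R hu
  have huN := P.rk.RN huR
  have huu := P.rk.o.sq u huN
  obtain ⟨m, hm, hmR, -, hmu, -⟩ := siegel' P.rk P.four (x := u) (y := u * x) huR (mul_mem huR hx) hu1 hur
    (fun e => hx1 (by
      calc x = u * (u * x) := by rw [← mul_assoc, huu, one_mul]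
        _ = 1 := by rw [← e, huu])) (fun e => hxr (mul_left_cancel e).symm)
  rw [← mul_assoc, huu, one_mul] at hmu
  exact ⟨m, ⟨hm, nM h hI P hm.1 hm.2 hmR⟩, hmu⟩

omit [Finite G] hnl hl in
/-- an element of `M` mapping `u ∈ V₂` into `V₂` normalises `V₂` -/
theorem norm_V2 {u m : G} [Finite G] (hu : u ∈ V₂) (hu1 : u ≠ 1) (hur : u ≠ v₂) (hm : m ∈ cz v₂) (hmu : m * u * m⁻¹ ∈ V₂) :
    m ∈ normalizer (V₂ : Set G) := by
  apply Cfsg.Agent.MinSimple.VModule.mem_normalizer_of_map_le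
  rintro _ ⟨x, hx, rfl⟩
  show m * x * m⁻¹ ∈ V₂
  have hmr : m * v₂ * m⁻¹ = v₂ := by rw [mem_cz.1 hm, mul_inv_cancel_right]
  rcases h.toBase.symm.mem_V1 hx hu hu1 hur with rfl | rfl | rfl | rfl
  · simp
  · rw [hmr]; exact h.vV2
  · exact hmu
  · have e : m * (v₂ * u) * m⁻¹ = m * v₂ * m⁻¹ * (m * u * m⁻¹) := by group
    rw [e, hmr]
    exact mul_mem h.vV2 hmu

/-- `|P₃ : T| = 3` -/
theorem idx_PM : T.relIndex (PM v₁ v₂ V₁) = 3 := by
  obtain ⟨u, hu, hu1, hur⟩ := exists_x h.symm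
  have huR := P.V2R hu
  have hb := h.toBase
  have hne : ∀ m : G, m ∈ cz v₂ → m * u * m⁻¹ ≠ 1 ∧ m * u * m⁻¹ ≠ v₂ := by
    intro m hm
    refine ⟨fun e => hu1 ?_, fun e => hur ?_⟩
    · calc u = m⁻¹ * (m * u * m⁻¹) * m := by group
        _ = 1 := by rw [e]; group
    · calc u = m⁻¹ * (m * u * m⁻¹) * m := by group
        _ = m⁻¹ * (v₂ * m) := by rw [e]; group
        _ = v₂ := by rw [← mem_cz.1 hm]; group
  have h6 := relIndex_orbit (T := T ⊓ cz u) (P := PM v₁ v₂ V₁) (fun g => g * u * g⁻¹)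
    {x | x ∈ RR v₁ v₂ l ∧ x ≠ 1 ∧ x ≠ v₂} ?_ ?_ ?_
  · have h2 := relIndex_orbit (T := T ⊓ cz u) (P := T) (fun g => g * u * g⁻¹) {x | x ∈ V₂ ∧ x ≠ 1 ∧ x ≠ v₂} ?_ ?_ ?_
    · have c6 := ncard_two (A := RR v₁ v₂ l) P.rk.rR h.v2
      have c2 := ncard_two (A := V₂) h.vV2 h.v2
      have c8 : Nat.card (RR v₁ v₂ l) = 8 := P.rk.card_eq P.four
      rw [c8] at c6
      rw [h.card2] at c2
      have h3 := relIndex_mul_relIndex (T ⊓ cz u) T (PM v₁ v₂ V₁) inf_le_left (T_PM hb)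
      rw [h2, h6] at h3
      have e2 : {x | x ∈ V₂ ∧ x ≠ 1 ∧ x ≠ v₂}.ncard = 2 := by omega
      rw [e2] at h3
      omega
    · intro x hx y hy
      rw [conj_eq_iff]
      exact ⟨fun e => ⟨T.mul_mem (T.inv_mem hx) hy, e⟩, fun e => e.2⟩
    · intro x hx
      exact ⟨h.T2 x hx u hu, hne x (hb.T_le2 hx)⟩
    · rintro x ⟨hx, hx1, hxr⟩
      obtain ⟨m, hm, e⟩ := move h hnl hI hl P hu hu1 hur (P.V2R hx) hx1 hxr
      refine ⟨m, (T_iff h hnl hI hl P).2 ⟨hm.1.1, hm.1.2, hm.2, ?_⟩, e⟩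
      exact norm_V2 h hI P hu hu1 hur hm.1.2 (by rw [e]; exact hx)
  · intro x hx y hy
    rw [conj_eq_iff]
    have hxy := mul_mem (inv_mem hx) hy
    refine ⟨fun e => ⟨(T_iff h hnl hI hl P).2 ⟨hxy.1.1, hxy.1.2, hxy.2, ?_⟩, e⟩, fun e => e.2⟩
    refine norm_V2 h hI P hu hu1 hur hxy.1.2 ?_
    rw [mem_cz.1 e, mul_inv_cancel_right]
    exact hu
  · intro x hx
    have hxR : x ∈ normalizer (RR v₁ v₂ l : Set G) := P.nor ⟨hx.1.1, hx.2⟩
    exact ⟨(mem_normalizer_iff.1 hxR u).1 huR, hne x hx.1.2⟩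
  · rintro x ⟨hx, hx1, hxr⟩
    exact move h hnl hI hl P hu hu1 hur hx hx1 hxr

/-- `M = ⟨P₂, P₃⟩` -/
theorem gen_M : cz v₁ ⊓ cz v₂ ≤ PM v₁ v₂ V₁ ⊔ PM v₁ v₂ V₂ := by
  obtain ⟨u, hu, hu1, hur⟩ := exists_x h.symm
  have o₁ := P.rk.o
  have hs := sy_perp (sy_of o₁) o₁.r_mem
  have hb := h.toBase
  obtain ⟨hup, huy⟩ := pt_mem h.symm o₁ hb.symm hu hu1 hur
  -- an element of `R ∖ V₂`
  obtain ⟨x, hx, hxV⟩ : ∃ x ∈ RR v₁ v₂ l, x ∉ V₂ := by
    by_contra hcon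
    push Not at hcon
    have h1 := Subgroup.card_le_of_le (show RR v₁ v₂ l ≤ V₂ from hcon)
    have c8 : Nat.card (RR v₁ v₂ l) = 8 := P.rk.card_eq P.four
    rw [c8, h.card2] at h1
    omega
  obtain ⟨m, hm, e⟩ := move h hnl hI hl P hu hu1 hur hx (fun e => hxV (e ▸ one_mem _)) (fun e => hxV (e ▸ h.vV2))
  refine hs.perp_gen (p := u) (k := m) hup huy ?_ (mem_sup_left hm) ⟨hm.1.1, hm.1.2⟩ ?_ ?_
  · intro g hg e1
    apply mem_sup_right
    exact ⟨hg, (stab_iff h.symm o₁ hu hu1 hur hg).1 e1⟩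
  · rw [e]
    exact P.rk.iso u (P.V2R hu) x hx
  · rw [e]
    intro e1
    apply hxV
    have huN := o₁.sq u (P.rk.RN (P.V2R hu))
    have huxR : u * x ∈ RR v₁ v₂ l := mul_mem (P.V2R hu) hx
    have hcR : v₁ ∉ RR v₁ v₂ l := P.rk.cR
    have hrR : v₂ ∈ RR v₁ v₂ l := P.rk.rR
    have hx2 : x = u * (u * x) := by rw [← mul_assoc, huN, one_mul]
    rcases mem_yr' h.symm o₁ e1 with e2 | e2 | e2 | e2
    · rw [hx2, e2, mul_one]; exact hu
    · exfalso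
      apply hcR
      rwa [e2] at huxR
    · rw [hx2, e2]; exact mul_mem hu h.vV2
    · exfalso
      apply hcR
      have e3 := mul_mem (inv_mem hrR) huxR
      have e4 : v₂⁻¹ * (v₂ * v₁) = v₁ := by group
      rwa [e2, e4] at e3

end main

end Cfsg.Agent.Omega.IId.Pf.Idx

end

section


/-!
# II.d, CASE 1, `q = 2`, case B: the digons and the projective planes

helper310.
-/

set_option autoImplicit false
set_option linter.unusedSectionVars false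
set_option linter.unusedVariables false

namespace Cfsg.Agent.Omega.IId.Pf.Geo

open Cfsg.Agent.Omega.TV hiding z2
open Subgroup Cfsg Cfsg.Agent.ZN Cfsg.Agent.Omega.IId.PlaneSy Cfsg.Agent.Omega.IId.PlaneRk
open Cfsg.Agent.Omega.IId.PlaneF Cfsg.Agent.Omega.IId.PlaneOf
open Cfsg.Agent.Omega.IId.One Cfsg.Agent.Omega.IId.SpSide
open Cfsg.Agent.Omega.IId.SpForm (two_mul_card_le)
open Cfsg.Agent.Omega.MinPar
open Cfsg.Agent.Omega.NoFF.Basic
open Cfsg.Agent.Omega.IId.Pf.Rad Cfsg.Agent.Omega.IId.Pf.Par Cfsg.Agent.Omega.IId.Pf.Idx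
open Cfsg.Agent.ParSys Cfsg.Agent.ParSys.Free Cfsg.Agent.ParSys.RankTwo Cfsg.Agent.ParSys.FlagGP
open scoped Pointwise commutatorElement

universe u

variable {G : Type u} [Group G]

/-! ### The actions by conjugation -/

/-- elements of `G`, `G` acts by conjugation -/
structure Pt (G : Type u) where
  val : G

/-- subgroups of `G`, `G` acts by conjugation -/
structure Ln (G : Type u) [Group G] where
  val : Subgroup G

instance : MulAction G (Pt G) where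
  smul g x := ⟨g * x.val * g⁻¹⟩
  one_smul x := by
    show Pt.mk (1 * x.val * 1⁻¹) = x
    simp
  mul_smul g k x := by
    show Pt.mk (g * k * x.val * (g * k)⁻¹) = Pt.mk (g * (k * x.val * k⁻¹) * g⁻¹)
    simp [mul_assoc]

instance : MulAction G (Ln G) where
  smul g L := ⟨MulAut.conj g • L.val⟩
  one_smul L := by
    show Ln.mk (MulAut.conj 1 • L.val) = L
    rw [map_one, one_smul]
  mul_smul g k L := by
    show Ln.mk (MulAut.conj (g * k) • L.val) = Ln.mk (MulAut.conj g • (MulAut.conj k • L.val))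
    rw [map_mul, mul_smul]

theorem pt_smul (g : G) (x : Pt G) : (g • x).val = g * x.val * g⁻¹ := rfl
theorem ln_smul (g : G) (L : Ln G) : (g • L).val = MulAut.conj g • L.val := rfl

theorem pt_ext {x y : Pt G} (h : x.val = y.val) : x = y := by
  cases x; cases y; cases h; rfl

theorem ln_ext {x y : Ln G} (h : x.val = y.val) : x = y := by
  cases x; cases y; cases h; rfl

theorem mem_sm {g x : G} {A : Subgroup G} : g * x * g⁻¹ ∈ MulAut.conj g • A ↔ x ∈ A := by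
  rw [mem_conj]
  rw [show g⁻¹ * (g * x * g⁻¹) * g = x by group]

/-! ### Klein four groups -/

/-- `{1, x, y, xy}` -/
def kl {x y : G} (hx : x * x = 1) (hy : y * y = 1) (hc : x * y = y * x) : Subgroup G where
  carrier := {t | t = 1 ∨ t = x ∨ t = y ∨ t = x * y}
  one_mem' := Or.inl rfl
  mul_mem' := by
    have e1 : x * (x * y) = y := by rw [← mul_assoc, hx, one_mul]
    have e2 : y * (x * y) = x := by rw [hc, ← mul_assoc, hy, one_mul]
    have e3 : x * y * x = y := by rw [hc, mul_assoc, hx, mul_one]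
    have e4 : x * y * y = x := by rw [mul_assoc, hy, mul_one]
    have e5 : x * y * (x * y) = 1 := by rw [mul_assoc, e2, hx]
    have e6 : y * x = x * y := hc.symm
    rintro a b (rfl | rfl | rfl | rfl) (rfl | rfl | rfl | rfl) <;> simp [e1, e2, e3, e4, e5, e6, hx, hy]
  inv_mem' := by
    have hx' : x⁻¹ = x := inv_eq_of_mul_eq_one_left hx
    have hy' : y⁻¹ = y := inv_eq_of_mul_eq_one_left hy
    rintro a (rfl | rfl | rfl | rfl) <;> simp [hx', hy', ← hc]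

theorem mem_kl {x y t : G} {hx : x * x = 1} {hy : y * y = 1} {hc : x * y = y * x} :
    t ∈ kl hx hy hc ↔ t = 1 ∨ t = x ∨ t = y ∨ t = x * y := Iff.rfl

theorem card_kl [Finite G] {x y : G} {hx : x * x = 1} {hy : y * y = 1} {hc : x * y = y * x} (hx1 : x ≠ 1)
    (hy1 : y ≠ 1) (hxy : x ≠ y) : Nat.card (kl hx hy hc) = 4 := by
  apply le_antisymm
  · classical
    have h5 : (kl hx hy hc : Set G) ⊆ (({1, x, y, x * y} : Finset G) : Set G) := by
      intro t ht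
      have ht : t = 1 ∨ t = x ∨ t = y ∨ t = x * y := ht
      simpa using ht
    have h6 := Set.ncard_le_ncard h5 (Finset.finite_toSet _)
    rw [Set.ncard_coe_finset] at h6
    have h7 : Nat.card (kl hx hy hc) = (kl hx hy hc : Set G).ncard := Nat.card_coe_set_eq _
    have h9 : ({1, x, y, x * y} : Finset G).card ≤ 4 := Finset.card_le_four
    omega
  · have h1 : Nat.card (zpowers x) = 2 := by
      rw [Nat.card_zpowers]
      exact orderOf_eq_prime (by rw [pow_two, hx]) hx1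
    have h2 := two_mul_card_le (K := zpowers x) (H := kl hx hy hc) (zpowers_le.2 (Or.inr (Or.inl rfl)))
      ⟨y, Or.inr (Or.inr (Or.inl rfl)), fun e => by
        rcases (mem_zp2 hx).1 e with e | e
        · exact hy1 e
        · exact hxy e.symm⟩
    omega

theorem eq_kl [Finite G] {x y : G} {hx : x * x = 1} {hy : y * y = 1} {hc : x * y = y * x} (hx1 : x ≠ 1)
    (hy1 : y ≠ 1) (hxy : x ≠ y) {L : Subgroup G} (hL : Nat.card L = 4) (h1 : x ∈ L) (h2 : y ∈ L) :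
    L = kl hx hy hc := by
  refine (Subgroup.eq_of_le_of_card_ge ?_ (by rw [hL, card_kl hx1 hy1 hxy])).symm
  rintro t (rfl | rfl | rfl | rfl)
  · exact one_mem _
  · exact h1
  · exact h2
  · exact mul_mem h1 h2

/-- a subgroup of index 2 -/
theorem quo_two [Finite G] {A R : Subgroup G} (hA : A ≤ R) (hc : Nat.card R = 2 * Nat.card A) {x y : G}
    (hx : x ∈ R) (hy : y ∈ R) (hx2 : x ∉ A) (hy2 : y ∉ A) : x * y ∈ A := by
  have h5 : (A.subgroupOf R).index = 2 := by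
    have h6 := (A.subgroupOf R).card_mul_index
    rw [Nat.card_congr (subgroupOfEquivOfLe hA).toEquiv, hc, mul_comm 2] at h6
    exact Nat.eq_of_mul_eq_mul_left Nat.card_pos h6
  exact (mul_mem_iff_of_index_two h5 (a := ⟨x, hx⟩) (b := ⟨y, hy⟩)).2 ⟨fun e => absurd e hx2, fun e => absurd e hy2⟩

/-! ### The digons -/

theorem inv_mul {A : Subgroup G} {x y : G} (hx : x ∈ A) (hy : y ∈ A) : x⁻¹ * y ∈ A := A.mul_mem (A.inv_mem hx) hy

theorem swap_mul {A B : Subgroup G} (h : ∀ p ∈ A, ∀ q ∈ B, ∃ q' ∈ B, ∃ p' ∈ A, p * q = q' * p') :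
    ∀ q ∈ B, ∀ p ∈ A, ∃ p' ∈ A, ∃ q' ∈ B, q * p = p' * q' := by
  intro q hq p hp
  obtain ⟨q', hq', p', hp', e⟩ := h p⁻¹ (inv_mem hp) q⁻¹ (inv_mem hq)
  refine ⟨p'⁻¹, inv_mem hp', q'⁻¹, inv_mem hq', ?_⟩
  rw [← mul_inv_rev, ← e, mul_inv_rev, inv_inv, inv_inv]

section main

variable [Finite G] {T V₁ V₂ L₁ L₂ : Subgroup G} {v₁ v₂ s : G} {I : Type*} {PP : I → Subgroup G} {i j : I}

theorem digon_E (h : Base T V₁ V₂ L₁ L₂ v₁ v₂ s)
    (hT : ∀ x, x ∈ T ↔ x ∈ cz v₁ ∧ x ∈ cz v₂ ∧ x ∈ normalizer (V₁ : Set G) ∧ x ∈ normalizer (V₂ : Set G))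
    (hBP : ∀ i, T ≤ PP i) (hi : PP i = PE v₂ V₁ V₂) (hj : PP j = PE v₁ V₁ V₂) :
    GPp T PP i j 2 ∧ GPp T PP j i 2 := by
  have hinf : ∀ x, x ∈ PP i → x ∈ PP j → x ∈ T := fun x hx hy => by
    rw [hi] at hx
    rw [hj] at hy
    exact (hT x).2 ⟨hy.1, hx.1, hx.2.1, hx.2.2⟩
  have hm : ∀ p ∈ PP i, ∀ q ∈ PP j, ∃ q' ∈ PP j, ∃ p' ∈ PP i, p * q = q' * p' := by
    intro p hp q hq
    rw [hi] at hp
    rw [hj] at hq
    have hpq : p * q ∈ normalizer (V₂ : Set G) := mul_mem hp.2.2 hq.2.2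
    have h1 : p * q * v₂ * (p * q)⁻¹ ∈ V₂ := (mem_normalizer_iff.1 hpq v₂).1 h.vV2
    have h2 : p * q * v₂ * (p * q)⁻¹ ≠ 1 := fun e => h.v2 (by
      calc v₂ = (p * q)⁻¹ * (p * q * v₂ * (p * q)⁻¹) * (p * q) := by group
        _ = 1 := by rw [e]; group)
    obtain ⟨k, hk, e⟩ := h.t2 v₂ h.vV2 h.v2 _ h1 h2
    have hk' := L2_PE h hk
    refine ⟨k, by rw [hj]; exact hk', k⁻¹ * (p * q), ?_, by group⟩
    rw [hi]
    exact ⟨conj_eq_iff.1 e, inv_mul hk'.2.1 (mul_mem hp.2.1 hq.2.1), inv_mul hk'.2.2 hpq⟩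
  exact ⟨gpp_two hBP hinf hm, gpp_two hBP (fun x hx hy => hinf x hy hx) (swap_mul hm)⟩

theorem digon_M (h : Base T V₁ V₂ L₁ L₂ v₁ v₂ s)
    (hT : ∀ x, x ∈ T ↔ x ∈ cz v₁ ∧ x ∈ cz v₂ ∧ x ∈ normalizer (V₁ : Set G) ∧ x ∈ normalizer (V₂ : Set G))
    (hBP : ∀ i, T ≤ PP i) (hi : PP i = PM v₁ v₂ V₂) (hj : PP j = PE v₁ V₁ V₂) :
    GPp T PP i j 2 ∧ GPp T PP j i 2 := by
  have hinf : ∀ x, x ∈ PP i → x ∈ PP j → x ∈ T := fun x hx hy => by
    rw [hi] at hx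
    rw [hj] at hy
    exact (hT x).2 ⟨hy.1, hx.1.2, hy.2.1, hy.2.2⟩
  have hm : ∀ p ∈ PP i, ∀ q ∈ PP j, ∃ q' ∈ PP j, ∃ p' ∈ PP i, p * q = q' * p' := by
    intro p hp q hq
    rw [hi] at hp
    rw [hj] at hq
    have hpq : p * q ∈ normalizer (V₂ : Set G) := mul_mem hp.2 hq.2.2
    have h1 : p * q * v₂ * (p * q)⁻¹ ∈ V₂ := (mem_normalizer_iff.1 hpq v₂).1 h.vV2
    have h2 : p * q * v₂ * (p * q)⁻¹ ≠ 1 := fun e => h.v2 (by
      calc v₂ = (p * q)⁻¹ * (p * q * v₂ * (p * q)⁻¹) * (p * q) := by group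
        _ = 1 := by rw [e]; group)
    obtain ⟨k, hk, e⟩ := h.t2 v₂ h.vV2 h.v2 _ h1 h2
    have hk' := L2_PE h hk
    refine ⟨k, by rw [hj]; exact hk', k⁻¹ * (p * q), ?_, by group⟩
    rw [hi]
    exact ⟨⟨inv_mul hk'.1 (mul_mem hp.1.1 hq.1), conj_eq_iff.1 e⟩, inv_mul hk'.2.2 hpq⟩
  exact ⟨gpp_two hBP hinf hm, gpp_two hBP (fun x hx hy => hinf x hy hx) (swap_mul hm)⟩

/-! ### The projective plane -/

/-- points of the plane -/
def ptR (R : Subgroup G) : Set (Pt G) := fun x => x.val ∈ R ∧ x.val ≠ 1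

/-- lines of the plane -/
def lnR (R : Subgroup G) : Set (Ln G) := fun L => L.val ≤ R ∧ Nat.card L.val = 4

def inc (x : Pt G) (L : Ln G) : Prop := x.val ∈ L.val

theorem mem_ptR {R : Subgroup G} {x : Pt G} : x ∈ ptR R ↔ x.val ∈ R ∧ x.val ≠ 1 := Iff.rfl
theorem mem_lnR {R : Subgroup G} {L : Ln G} : L ∈ lnR R ↔ L.val ≤ R ∧ Nat.card L.val = 4 := Iff.rfl

variable (h : One T V₁ V₂ L₁ L₂ v₁ v₂ s) (hnl : NonLoc (cz v₁) (cz v₂))
  (hI : ∃ x ∈ nc v₁ {v₂}, ∃ y ∈ nc v₂ {v₁}, x * y ≠ y * x) {v' w l : G} (hl : l ∈ L₁)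
  (P : Plane V₁ V₂ v₁ v₂ v' w l)

include h hnl hI hl P

/-- `N_M(R)` is transitive on the lines of `R` through `v₂`. -/
theorem move_line {L : Subgroup G} (hLR : L ≤ RR v₁ v₂ l) (hL : Nat.card L = 4) (hr : v₂ ∈ L) :
    ∃ g ∈ PM v₁ v₂ V₁, MulAut.conj g • V₂ = L := by
  obtain ⟨u, hu, hu1, hur⟩ := exists_x h.symm
  obtain ⟨x, hx, hx1, hxr⟩ : ∃ x ∈ L, x ≠ 1 ∧ x ≠ v₂ := by
    by_contra hcon
    push Not at hcon
    have h1 : L ≤ zpowers v₂ := fun t ht => by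
      rw [mem_zp2 h.toBase.vq2]
      by_cases ht1 : t = 1
      · exact Or.inl ht1
      · exact Or.inr (hcon t ht ht1)
    have h2 := Subgroup.card_le_of_le h1
    rw [Nat.card_zpowers] at h2
    have h3 : orderOf v₂ ≤ 2 := orderOf_le_of_pow_eq_one (by norm_num) (by rw [pow_two, h.toBase.vq2])
    omega
  obtain ⟨m, hm, e⟩ := move h hnl hI hl P hu hu1 hur (hLR hx) hx1 hxr
  refine ⟨m, hm, ?_⟩
  have hmr : m * v₂ * m⁻¹ = v₂ := by rw [mem_cz.1 hm.1.2, mul_inv_cancel_right]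
  apply Subgroup.eq_of_le_of_card_ge
  · intro t ht
    rw [mem_conj] at ht
    have e3 : t = m * (m⁻¹ * t * m) * m⁻¹ := by group
    rw [e3]
    rcases h.toBase.symm.mem_V1 ht hu hu1 hur with e4 | e4 | e4 | e4 <;> rw [e4]
    · simp
    · rw [hmr]; exact hr
    · rw [e]; exact hx
    · have e5 : m * (v₂ * u) * m⁻¹ = m * v₂ * m⁻¹ * (m * u * m⁻¹) := by group
      rw [e5, hmr, e]
      exact mul_mem hr hx
  · rw [Side.card_conj, hL, h.card2]

/-- **the projective plane `R`** -/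
theorem plane_gp
    (hT : ∀ x, x ∈ T ↔ x ∈ cz v₁ ∧ x ∈ cz v₂ ∧ x ∈ normalizer (V₁ : Set G) ∧ x ∈ normalizer (V₂ : Set G))
    (hij : i ≠ j) (hBP : ∀ i, T ≤ PP i) (hi : PP i = PE v₁ V₁ V₂) (hj : PP j = PM v₁ v₂ V₁) :
    GPp T PP i j 3 ∧ GPp T PP j i 3 := by
  have c8 : Nat.card (RR v₁ v₂ l) = 8 := P.rk.card_eq P.four
  have sqR : ∀ x ∈ RR v₁ v₂ l, x * x = 1 := fun x hx => P.rk.o.sq x (P.rk.RN hx)
  have coR : ∀ x ∈ RR v₁ v₂ l, ∀ y ∈ RR v₁ v₂ l, x * y = y * x := fun x hx y hy =>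
    comm_of_sq sqR hx hy
  have hgR : ∀ g, g ∈ PP i ∨ g ∈ PP j → g ∈ normalizer (RR v₁ v₂ l : Set G) ∧ g ∈ cz v₁ ∧ g ∈ normalizer (V₁ : Set G) := by
    rintro g (hg | hg)
    · rw [hi] at hg
      exact ⟨P.nor ⟨hg.1, hg.2.1⟩, hg.1, hg.2.1⟩
    · rw [hj] at hg
      exact ⟨P.nor ⟨hg.1.1, hg.2⟩, hg.1.1, hg.2⟩
  have hconj : ∀ g : G, g ∈ normalizer (RR v₁ v₂ l : Set G) → ∀ L : Subgroup G, L ≤ RR v₁ v₂ l →
      MulAut.conj g • L ≤ RR v₁ v₂ l := by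
    intro g hg L hL t ht
    rw [mem_conj] at ht
    have := (mem_normalizer_iff.1 hg _).1 (hL ht)
    rwa [show g * (g⁻¹ * t * g) * g⁻¹ = t by group] at this
  have F : Flags T (PP i) (PP j) (ptR (RR v₁ v₂ l)) (lnR (RR v₁ v₂ l)) inc ⟨v₂⟩ ⟨V₂⟩ :=
    { hp := ⟨P.rk.rR, h.v2⟩
      hl := ⟨P.V2R, h.card2⟩
      hpl := h.vV2
      Bi := hBP i
      Bj := hBP j
      pts := fun g hg x hx => by
        refine ⟨(mem_normalizer_iff.1 (hgR g hg).1 _).1 hx.1, fun e => hx.2 ?_⟩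
        rw [pt_smul] at e
        calc x.val = g⁻¹ * (g * x.val * g⁻¹) * g := by group
          _ = 1 := by rw [e]; group
      lns := fun g hg L hL => by
        refine ⟨hconj g (hgR g hg).1 _ hL.1, ?_⟩
        rw [ln_smul, Side.card_conj]
        exact hL.2
      inc' := fun g hg x hx L hL hxL => by
        show g * x.val * g⁻¹ ∈ MulAut.conj g • L.val
        exact mem_sm.2 hxL
      fixl := fun g hg => by
        rw [hi] at hg
        apply ln_ext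
        exact conj_eq hg.2.2
      fixp := fun g hg => by
        rw [hj] at hg
        apply pt_ext
        show g * v₂ * g⁻¹ = v₂
        rw [mem_cz.1 hg.1.2, mul_inv_cancel_right]
      trp := fun x hx hxl => by
        obtain ⟨k, hk, e⟩ := h.t2 v₂ h.vV2 h.v2 x.val hxl hx.2
        exact ⟨k, by rw [hi]; exact L2_PE h.toBase hk, pt_ext e⟩
      trl := fun L hL hpL => by
        obtain ⟨g, hg, e⟩ := move_line h hnl hI hl P hL.1 hL.2 hpL
        exact ⟨g, by rw [hj]; exact hg, ln_ext e⟩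
      stab := fun g hg hp hL => by
        have h1 : g ∈ cz v₁ ⊓ normalizer (V₁ : Set G) :=
          (sup_le (fun x hx => (hgR x (Or.inl hx)).2) (fun x hx => (hgR x (Or.inr hx)).2) :
            PP i ⊔ PP j ≤ cz v₁ ⊓ normalizer (V₁ : Set G)) hg
        refine (hT g).2 ⟨h1.1, ?_, h1.2, ?_⟩
        · have h2 : g * v₂ * g⁻¹ = v₂ := congrArg Pt.val hp
          exact mem_cz.2 (mul_inv_eq_iff_eq_mul.1 h2)
        · exact mem_normalizer_of_conj (congrArg Ln.val hL) }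
  refine F.gpp_three hBP hij ?_ ?_ ?_
  · intro x hx y hy hxy
    have hne : x.val ≠ y.val := fun e => hxy (pt_ext e)
    have hc := coR _ hx.1 _ hy.1
    refine ⟨⟨kl (sqR _ hx.1) (sqR _ hy.1) hc⟩, ⟨?_, card_kl (hx := sqR _ hx.1) (hy := sqR _ hy.1) (hc := hc) hx.2 hy.2 hne⟩, Or.inr (Or.inl rfl),
      Or.inr (Or.inr (Or.inl rfl))⟩
    rintro t (rfl | rfl | rfl | rfl)
    · exact one_mem _
    · exact hx.1
    · exact hy.1
    · exact mul_mem hx.1 hy.1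
  · intro x hx y hy hxy L hL L' hL' h1 h2 h3 h4
    have hne : x.val ≠ y.val := fun e => hxy (pt_ext e)
    have hc := coR _ hx.1 _ hy.1
    apply ln_ext
    rw [eq_kl (hx := sqR _ hx.1) (hy := sqR _ hy.1) (hc := hc) hx.2 hy.2 hne hL.2 h1 h2,
      eq_kl (hx := sqR _ hx.1) (hy := sqR _ hy.1) (hc := hc) hx.2 hy.2 hne hL'.2 h3 h4]
  · intro L hL L' hL' hne
    -- two elements of `L'` outside `L`
    by_contra hcon
    push Not at hcon
    have hcap : ∀ t ∈ L.val, t ∈ L'.val → t = 1 := by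
      intro t ht ht'
      by_contra ht1
      exact hcon ⟨t⟩ ⟨hL.1 ht, ht1⟩ ht ht'
    have h2 : ∀ x ∈ L'.val, ∀ y ∈ L'.val, x ≠ 1 → y ≠ 1 → x = y := by
      intro x hx y hy hx1 hy1
      have hxL : x ∉ L.val := fun e => hx1 (hcap x e hx)
      have hyL : y ∉ L.val := fun e => hy1 (hcap y e hy)
      have h3 := quo_two hL.1 (by rw [c8, hL.2]) (hL'.1 hx) (hL'.1 hy) hxL hyL
      have h4 := hcap _ h3 (mul_mem hx hy)
      calc x = x * (y * y) := by rw [sqR y (hL'.1 hy), mul_one]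
        _ = y := by rw [← mul_assoc, h4, one_mul]
    obtain ⟨x, hx, hx1⟩ : ∃ x ∈ L'.val, x ≠ 1 := by
      by_contra hcon2
      push Not at hcon2
      have h3 : L'.val ≤ ⊥ := fun x hx => by rw [mem_bot]; exact hcon2 x hx
      have h4 := Subgroup.card_le_of_le h3
      rw [hL'.2, Subgroup.card_bot] at h4
      omega
    have h3 : L'.val ≤ zpowers x := fun y hy => by
      by_cases hy1 : y = 1
      · rw [hy1]; exact one_mem _
      · rw [h2 y hy x hx hy1 hx1]; exact mem_zpowers _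
    have h4 := Subgroup.card_le_of_le h3
    rw [Nat.card_zpowers, hL'.2] at h4
    have h5 : orderOf x ≤ 2 := orderOf_le_of_pow_eq_one (by norm_num) (by rw [pow_two, sqR x (hL'.1 hx)])
    omega

end main

/-! ### Restriction to a subgroup -/

theorem gpp_restrict {B H : Subgroup G} {I : Type*} {P : I → Subgroup G} (hBP : ∀ i, B ≤ P i) (hPH : ∀ i, P i ≤ H)
    {i j : I} {m : ℕ} (hg : GPp B P i j m) :
    GPp (B.subgroupOf H) (fun i => (P i).subgroupOf H) i j m := by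
  have hM : Model (B.subgroupOf H) (fun i => (P i).subgroupOf H) i j (adj B P) (fun x : H => ((x : G) : G ⧸ B)) ⊤ :=
    { li := le_top
      lj := le_top
      inj := fun x _ y _ e => by
        rw [QuotientGroup.eq] at e
        exact e
      eqB := fun x _ b hb => by
        rw [QuotientGroup.eq]
        have e : ((x * b : H) : G)⁻¹ * (x : G) = ((b : H) : G)⁻¹ := by
          rw [Subgroup.coe_mul]; group
        rw [e]
        exact inv_mem hb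
      adj := fun k _ x _ p hp hpB => by
        rw [adj_mk hBP]
        have e : ((x : H) : G)⁻¹ * ((x * p : H) : G) = (p : G) := by
          rw [Subgroup.coe_mul]; group
        rw [e]
        exact ⟨hp, hpB⟩
      sur := fun k _ x _ d hd => by
        induction d using QuotientGroup.induction_on with
        | _ y =>
        rw [adj_mk hBP] at hd
        refine ⟨⟨(x : G)⁻¹ * y, hPH k hd.1⟩, hd.1, hd.2, ?_⟩
        have e : ((x * ⟨(x : G)⁻¹ * y, hPH k hd.1⟩ : H) : G) = y := by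
          rw [Subgroup.coe_mul]; group
        rw [e] }
  refine hM.gpp (fun i => ?_) fun l hl => hg _ l hl
  intro x hx
  exact hBP i hx

end Cfsg.Agent.Omega.IId.Pf.Geo

end

section


/-!
# II.d, CASE 1, `q = 2`, case B: the quadrangle

helper310.  The totally singular subgroups of order 4 and 8 of `N₁` which contain `v₂`: a generalised quadrangle
(`pu`, `quad_q`), on which `M` acts flag-transitively (`flags`).
-/

set_option autoImplicit false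
set_option linter.unusedSectionVars false
set_option linter.unusedVariables false

namespace Cfsg.Agent.Omega.IId.Pf.Quad

open Cfsg.Agent.Omega.TV hiding z2
open Subgroup Cfsg Cfsg.Agent.ZN Cfsg.Agent.Omega.IId.PlaneSy Cfsg.Agent.Omega.IId.PlaneRk
open Cfsg.Agent.Omega.IId.PlaneF Cfsg.Agent.Omega.IId.PlaneOf
open Cfsg.Agent.Omega.IId.One Cfsg.Agent.Omega.IId.SpSide
open Cfsg.Agent.Omega.IId.SpForm (two_mul_card_le four_mem)
open Cfsg.Agent.Omega.MinPar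
open Cfsg.Agent.Omega.NoFF.Basic
open Cfsg.Agent.Omega.IId.Pf.Rad Cfsg.Agent.Omega.IId.Pf.Par Cfsg.Agent.Omega.IId.Pf.Idx
open Cfsg.Agent.Omega.IId.Pf.Geo Cfsg.Agent.Omega.IId.Pf.Dual
open Cfsg.Agent.ParSys Cfsg.Agent.ParSys.Free Cfsg.Agent.ParSys.RankTwo Cfsg.Agent.ParSys.FlagGP
open scoped Pointwise commutatorElement

universe u

variable {G : Type u} [Group G]

/-! ### Adjoining an involution -/

/-- `A ∪ Ay` -/
def ad (A : Subgroup G) {y : G} (hy : y * y = 1) (hc : ∀ a ∈ A, a * y = y * a) : Subgroup G where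
  carrier := {t | t ∈ A ∨ t * y ∈ A}
  one_mem' := Or.inl (one_mem _)
  mul_mem' := by
    rintro a b (ha | ha) (hb | hb)
    · exact Or.inl (mul_mem ha hb)
    · exact Or.inr (by rw [mul_assoc]; exact mul_mem ha hb)
    · refine Or.inr ?_
      rw [mul_assoc, hc b hb, ← mul_assoc]
      exact mul_mem ha hb
    · left
      have e : a * b = a * y * (b * y) := by
        have h1 := hc _ hb
        calc a * b = a * (b * y * y) := by rw [mul_assoc b, hy, mul_one]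
          _ = a * (y * (b * y)) := by rw [h1]
          _ = a * y * (b * y) := by group
      rw [e]
      exact mul_mem ha hb
  inv_mem' := by
    rintro a (ha | ha)
    · exact Or.inl (inv_mem ha)
    · refine Or.inr ?_
      have h1 := inv_mem ha
      have hyi : y⁻¹ = y := inv_eq_of_mul_eq_one_left hy
      rw [mul_inv_rev, hyi] at h1
      have h2 := hc _ h1
      have e : a⁻¹ * y = y * a⁻¹ := by
        have e1 : y * a⁻¹ * y = y * (y * a⁻¹) := h2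
        rw [← mul_assoc, hy, one_mul] at e1
        calc a⁻¹ * y = y * a⁻¹ * y * y := by rw [e1]
          _ = y * a⁻¹ := by rw [mul_assoc, hy, mul_one]
      rw [e]; exact h1

theorem mem_ad {A : Subgroup G} {y : G} {hy : y * y = 1} {hc : ∀ a ∈ A, a * y = y * a} {t : G} :
    t ∈ ad A hy hc ↔ t ∈ A ∨ t * y ∈ A := Iff.rfl

theorem card_ad [Finite G] {A : Subgroup G} {y : G} {hy : y * y = 1} {hc : ∀ a ∈ A, a * y = y * a} (hyA : y ∉ A) :
    Nat.card (ad A hy hc) = 2 * Nat.card A := by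
  have hle : A ≤ ad A hy hc := fun a ha => Or.inl ha
  apply le_antisymm
  · have h1 := card_le_two_mul (K := A) (H := ad A hy hc) (fun a ha b hb haA hbA => by
      have ha' : a * y ∈ A := (mem_ad.1 ha).resolve_left haA
      have hb' : b * y ∈ A := (mem_ad.1 hb).resolve_left hbA
      have h2 := mul_mem (inv_mem ha') hb'
      -- `(ay)⁻¹(by) = y a⁻¹ b y`
      have h3 := hc _ h2
      have e : (a * y)⁻¹ * (b * y) = y⁻¹ * (a⁻¹ * b) * y := by group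
      have hyi : y⁻¹ = y := inv_eq_of_mul_eq_one_left hy
      have e2 : a⁻¹ * b = y * ((a * y)⁻¹ * (b * y)) * y := by
        rw [e, hyi]
        calc a⁻¹ * b = (y * y) * (a⁻¹ * b) * (y * y) := by rw [hy, one_mul, mul_one]
          _ = y * (y * (a⁻¹ * b) * y) * y := by group
      rw [e2, ← h3, mul_assoc, hy, mul_one]
      exact h2)
    rwa [inf_eq_left.2 hle] at h1
  · exact two_mul_card_le hle ⟨y, Or.inr (by rw [hy]; exact one_mem _), hyA⟩

/-! ### The quadrangle -/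

section geo

variable [Finite G] {C N : Subgroup G} {r c : G} (o : GOrth C N r c)

/-- totally singular subgroups of order `n` containing `r` -/
def TS (C N : Subgroup G) (r : G) (n : ℕ) : Set (Ln G) := fun L =>
  r ∈ L.val ∧ L.val ≤ N ∧ Nat.card L.val = n ∧ ∀ x ∈ L.val, Qg C r x = 0

theorem mem_TS {n : ℕ} {L : Ln G} :
    L ∈ TS C N r n ↔ r ∈ L.val ∧ L.val ≤ N ∧ Nat.card L.val = n ∧ ∀ x ∈ L.val, Qg C r x = 0 := Iff.rfl

def inc2 (L L' : Ln G) : Prop := L.val ≤ L'.val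

theorem B_of_Q {A : Subgroup G} (hQ : ∀ x ∈ A, Qg C r x = 0) {x y : G} (hx : x ∈ A) (hy : y ∈ A) : Bg C r x y = 0 := by
  unfold Bg
  rw [hQ x hx, hQ y hy, hQ _ (mul_mem hx hy), add_zero, add_zero]

include o

theorem coN {x y : G} (hx : x ∈ N) (hy : y ∈ N) : x * y = y * x := (sy_of o).mc hx hy

theorem Q_ad {A : Subgroup G} (hA : A ≤ N) (hQ : ∀ x ∈ A, Qg C r x = 0) {y : G} (hy : y ∈ N) (hQy : Qg C r y = 0)
    (hB : ∀ x ∈ A, Bg C r y x = 0) {t : G} (ht : t ∈ ad A (o.sq y hy) fun a ha => coN o (hA ha) hy) :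
    t ∈ N ∧ Qg C r t = 0 := by
  rcases mem_ad.1 ht with ht | ht
  · exact ⟨hA ht, hQ t ht⟩
  · have e : t = t * y * y := by rw [mul_assoc, o.sq y hy, mul_one]
    have h1 := hB _ ht
    rw [e]
    refine ⟨mul_mem (hA ht) hy, ?_⟩
    rw [GOrth.Q_mul, hQ _ ht, hQy, o.comm _ (hA ht) _ hy, h1]
    decide

theorem max8 (hN : Nat.card N = 128) {L : Ln G} (hL : L ∈ TS C N r 8) {y : G} (hy : y ∈ N) (hQy : Qg C r y = 0)
    (hB : ∀ t ∈ L.val, Bg C r y t = 0) : y ∈ L.val := by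
  by_contra hyL
  set A := ad L.val (o.sq y hy) (fun a ha => coN o (hL.2.1 ha) hy) with hA
  have hAQ : ∀ t ∈ A, t ∈ N ∧ Qg C r t = 0 := fun t ht => Q_ad o hL.2.1 hL.2.2.2 hy hQy hB ht
  have h1 : Nat.card A = 2 * 8 := by rw [hA, card_ad hyL, hL.2.2.1]
  have h2 := card_iso o (A := A) (fun t ht => (hAQ t ht).1) (fun e => by
    have := (hAQ c e).2
    rw [o.Qc] at this
    exact absurd this (by decide)) (fun x hx y hy => B_of_Q (fun t ht => (hAQ t ht).2) hx hy)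
  rw [h1, hN] at h2
  omega

theorem pu {p p' l l' : Ln G} (hp : p ∈ TS C N r 4) (hp' : p' ∈ TS C N r 4) (hpp : p ≠ p') (hl : l ∈ TS C N r 8)
    (hl' : l' ∈ TS C N r 8) (h1 : inc2 p l) (h2 : inc2 p' l) (h3 : inc2 p l') (h4 : inc2 p' l') : l = l' := by
  obtain ⟨y, hy, hyp⟩ : ∃ y ∈ p'.val, y ∉ p.val := by
    by_contra hcon
    push Not at hcon
    have h5 : p'.val ≤ p.val := hcon
    exact hpp (ln_ext (Subgroup.eq_of_le_of_card_ge h5 (by rw [hp.2.2.1, hp'.2.2.1])).symm)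
  have h5 := two_mul_card_le (K := p.val) (H := l.val ⊓ l'.val) (le_inf h1 h3) ⟨y, ⟨h2 hy, h4 hy⟩, hyp⟩
  rw [hp.2.2.1] at h5
  have h6 : l.val ⊓ l'.val = l.val := Subgroup.eq_of_le_of_card_ge inf_le_left (by rw [hl.2.2.1]; omega)
  have h7 : l.val ⊓ l'.val = l'.val := Subgroup.eq_of_le_of_card_ge inf_le_right (by rw [hl'.2.2.1]; omega)
  exact ln_ext (h6.symm.trans h7)

theorem quad_q (hr1 : r ≠ 1) (hN : Nat.card N = 128) {p l : Ln G} (hp : p ∈ TS C N r 4) (hl : l ∈ TS C N r 8)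
    (hpl : ¬ inc2 p l) : ∃ q ∈ TS C N r 4, ∃ m ∈ TS C N r 8, inc2 p m ∧ inc2 q m ∧ inc2 q l ∧
      ∀ q' ∈ TS C N r 4, ∀ m' ∈ TS C N r 8, inc2 p m' → inc2 q' m' → inc2 q' l → q' = q ∧ m' = m := by
  obtain ⟨y, hy, hyl⟩ := SetLike.not_le_iff_exists.1 hpl
  have hyN := hp.2.1 hy
  have hQy := hp.2.2.2 y hy
  have hadd : ∀ x ∈ l.val, ∀ z ∈ l.val, Bg C r y (x * z) = Bg C r y x + Bg C r y z := fun x hx z hz =>
    o.add y hyN x (hl.2.1 hx) z (hl.2.1 hz)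
  obtain ⟨t, ht, hyt⟩ : ∃ t ∈ l.val, Bg C r y t = 1 := by
    by_contra hcon
    push Not at hcon
    exact hyl (max8 o hN hl hyN hQy fun t ht => (z2 _).resolve_right (hcon t ht))
  have hc := card_ker' (A := l.val) (f := Bg C r y) hadd ⟨t, ht, hyt⟩
  set q : Subgroup G := ker l.val (Bg C r y) hadd with hq
  have hql : q ≤ l.val := fun x hx => hx.1
  have hqB : ∀ x ∈ q, Bg C r y x = 0 := fun x hx => hx.2
  have hqN : q ≤ N := hql.trans hl.2.1
  have c4 : Nat.card q = 4 := by rw [hl.2.2.1] at hc; omega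
  have hrq : r ∈ q := ⟨hl.1, B_of_Q hp.2.2.2 hy hp.1⟩
  have hq4 : (⟨q⟩ : Ln G) ∈ TS C N r 4 := ⟨hrq, hqN, c4, fun x hx => hl.2.2.2 x (hql hx)⟩
  set m : Subgroup G := ad q (o.sq y hyN) (fun a ha => coN o (hqN ha) hyN) with hm
  have hmQ : ∀ t ∈ m, t ∈ N ∧ Qg C r t = 0 := fun t ht => Q_ad o hqN (fun x hx => hl.2.2.2 x (hql hx)) hyN hQy hqB ht
  have hqm : q ≤ m := fun x hx => Or.inl hx
  have hym : y ∈ m := Or.inr (by rw [o.sq y hyN]; exact one_mem _)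
  have c8 : Nat.card m = 8 := by rw [hm, card_ad (fun e => hyl (hql e)), c4]
  have hm8 : (⟨m⟩ : Ln G) ∈ TS C N r 8 := ⟨hqm hrq, fun t ht => (hmQ t ht).1, c8, fun t ht => (hmQ t ht).2⟩
  refine ⟨⟨q⟩, hq4, ⟨m⟩, hm8, ?_, hqm, hql, ?_⟩
  · intro x hx
    have hy1 : y ≠ 1 := fun e => hyl (e ▸ one_mem _)
    have hry : r ≠ y := fun e => hyl (e ▸ hl.1)
    rcases four_mem hp.2.2.1 (fun x hx => o.sq x (hp.2.1 hx)) hp.1 hy hr1 hy1 hry hx with h1 | h1 | h1 | h1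
    · rw [h1]; exact one_mem _
    · rw [h1]; exact hqm hrq
    · rw [h1]; exact hym
    · rw [h1]; exact mul_mem (hqm hrq) hym
  · intro q' hq' m' hm' h1 h2 h3
    have h4 : q' = ⟨q⟩ := by
      apply ln_ext
      refine Subgroup.eq_of_le_of_card_ge (fun x hx => ⟨h3 hx, B_of_Q hm'.2.2.2 (h1 hy) (h2 hx)⟩) ?_
      show Nat.card q ≤ _
      rw [c4, hq'.2.2.1]
    refine ⟨h4, ?_⟩
    apply ln_ext
    refine (Subgroup.eq_of_le_of_card_ge ?_ ?_).symm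
    · intro t ht
      have hq'm : q ≤ m'.val := by
        rw [h4] at h2
        exact h2
      have ht2 : t ∈ q ∨ t * y ∈ q := ht
      rcases ht2 with h5 | h5
      · exact hq'm h5
      · have e : t = t * y * y⁻¹ := by group
        rw [e]
        exact mul_mem (hq'm h5) (inv_mem (h1 hy))
    · show Nat.card m'.val ≤ Nat.card m
      rw [c8, hm'.2.2.1]

end geo

section main

variable [Finite G] {T V₁ V₂ L₁ L₂ : Subgroup G} {v₁ v₂ s : G} {I : Type*} {PP : I → Subgroup G} {i j : I}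
  (h : One T V₁ V₂ L₁ L₂ v₁ v₂ s) (hnl : NonLoc (cz v₁) (cz v₂))
  (hI : ∃ x ∈ nc v₁ {v₂}, ∃ y ∈ nc v₂ {v₁}, x * y ≠ y * x) {v' w l : G} (hl : l ∈ L₁)
  (P : Plane V₁ V₂ v₁ v₂ v' w l)

include h hnl hI hl P

theorem V2_TS : (⟨V₂⟩ : Ln G) ∈ TS (cz v₁) (nc v₁ {v₂}) v₂ 4 :=
  ⟨h.vV2, h.toBase.V2_le_N1, h.card2, fun x hx => Q_zero h h.toBase hx⟩

theorem R_TS : (⟨RR v₁ v₂ l⟩ : Ln G) ∈ TS (cz v₁) (nc v₁ {v₂}) v₂ 8 :=
  ⟨P.rk.rR, P.rk.RN, P.rk.card_eq P.four, fun x hx => Q_zero_rk P.rk P.four hx⟩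

/-- `N_M(V₂)` is transitive on the totally singular planes containing `V₂`. -/
theorem move_plane {L : Ln G} (hL : L ∈ TS (cz v₁) (nc v₁ {v₂}) v₂ 8) (hVL : V₂ ≤ L.val) :
    ∃ g ∈ PM v₁ v₂ V₂, MulAut.conj g • RR v₁ v₂ l = L.val := by
  have o := P.rk.o
  have hN := P.rk.card_N P.four
  have c8 : Nat.card (RR v₁ v₂ l) = 8 := P.rk.card_eq P.four
  obtain ⟨x', hx', hx'V⟩ : ∃ x ∈ L.val, x ∉ V₂ := by
    by_contra hcon
    push Not at hcon
    have h1 := Subgroup.card_le_of_le (show L.val ≤ V₂ from hcon)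
    rw [hL.2.2.1, h.card2] at h1
    omega
  obtain ⟨x, hx, hxV⟩ : ∃ x ∈ RR v₁ v₂ l, x ∉ V₂ := by
    by_contra hcon
    push Not at hcon
    have h1 := Subgroup.card_le_of_le (show RR v₁ v₂ l ≤ V₂ from hcon)
    rw [c8, h.card2] at h1
    omega
  have hxN := P.rk.RN hx
  have hx'N := hL.2.1 hx'
  have hVR := P.V2R
  have qR : ∀ t ∈ RR v₁ v₂ l, t ∉ V₂ → x * t ∈ V₂ := fun t ht htV =>
    quo_two hVR (by rw [h.card2]; exact c8) hx ht hxV htV
  by_cases hx'R : x' ∈ RR v₁ v₂ l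
  · refine ⟨1, one_mem _, ?_⟩
    rw [map_one, one_smul]
    refine Subgroup.eq_of_le_of_card_ge (fun t ht => ?_) (by rw [hL.2.2.1]; exact c8.symm.le)
    by_cases htV : t ∈ V₂
    · exact hVL htV
    · have h1 := quo_two hVR (by rw [h.card2]; exact c8) hx'R ht hx'V htV
      have e : t = x'⁻¹ * (x' * t) := by group
      rw [e]
      exact mul_mem (inv_mem hx') (hVL h1)
  have hVN : V₂ ≤ nc v₁ {v₂} := h.toBase.V2_le_N1
  have hB : Bg (cz v₁) v₂ x x' = 1 := by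
    refine (z2 _).resolve_left fun e => hx'R (P.rk.sing P.four hx'N (fun t ht => ?_) (hL.2.2.2 x' hx'))
    have hV0 : ∀ t ∈ V₂, Bg (cz v₁) v₂ x' t = 0 := fun t ht => B_of_Q hL.2.2.2 hx' (hVL ht)
    by_cases htV : t ∈ V₂
    · exact hV0 t htV
    · have h1 := qR t ht htV
      have e2 : t = x * (x * t) := by rw [← mul_assoc, o.sq x hxN, one_mul]
      rw [e2, o.add x' hx'N x hxN _ (hVN h1), o.comm _ hx'N _ hxN, e, hV0 _ h1, add_zero]
  -- the reflection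
  have hcN := o.c_mem
  have hcc := P.rk.cc
  have hxx' : x * x' ∈ nc v₁ {v₂} := mul_mem hxN hx'N
  have hzN : x * x' * v₁ ∈ nc v₁ {v₂} := mul_mem hxx' hcN
  have hQz : Qg (cz v₁) v₂ (x * x' * v₁) = 0 := by
    rw [o.Qmulc hxx', GOrth.Q_mul, Q_zero_rk P.rk P.four hx, hL.2.2.2 x' hx', hB]
    decide
  have hBz : ∀ n ∈ nc v₁ {v₂}, Bg (cz v₁) v₂ (x * x' * v₁) n = Bg (cz v₁) v₂ x n + Bg (cz v₁) v₂ x' n := by
    intro n hn
    rw [o.add_left hxx' hcN hn, o.add_left hxN hx'N hn, o.Bc n hn, add_zero]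
  have hz1 : x * x' * v₁ ≠ 1 := fun e => by
    have h1 := hBz x hxN
    rw [e, o.comm _ (one_mem _) _ hxN, (sy_of o).one_right hxN, o.self x hxN, o.comm _ hx'N _ hxN, hB] at h1
    exact absurd h1 (by decide)
  obtain ⟨g, hg, hgn⟩ := o.refl _ hzN hz1 hQz
  have ezc : x * x' * v₁ * v₁ = x * x' := by rw [mul_assoc, hcc, mul_one]
  rw [ezc] at hgn
  have gx : g * x * g⁻¹ = x' := by
    rcases hgn x hxN with ⟨h1, -⟩ | ⟨-, h1⟩
    · rw [hBz x hxN, o.self x hxN, o.comm _ hx'N _ hxN, hB] at h1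
      exact absurd h1 (by decide)
    · rw [h1, ← mul_assoc, o.sq x hxN, one_mul]
  have gV : ∀ t ∈ V₂, g * t * g⁻¹ = t := by
    intro t ht
    rcases hgn t (hVN ht) with ⟨-, h1⟩ | ⟨h1, -⟩
    · exact h1
    · rw [hBz t (hVN ht), P.rk.iso x hx t (hVR ht), B_of_Q hL.2.2.2 hx' (hVL ht)] at h1
      exact absurd h1 (by decide)
  have hg2 : g ∈ cz v₂ := mem_cz.2 (mul_inv_eq_iff_eq_mul.1 (gV _ h.vV2))
  refine ⟨g, ⟨⟨hg, hg2⟩, ?_⟩, ?_⟩
  · apply Cfsg.Agent.MinSimple.VModule.mem_normalizer_of_map_le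
    rintro _ ⟨t, ht, rfl⟩
    show g * t * g⁻¹ ∈ V₂
    rw [gV t ht]; exact ht
  · apply Subgroup.eq_of_le_of_card_ge
    · intro t ht
      rw [mem_conj] at ht
      have e3 : t = g * (g⁻¹ * t * g) * g⁻¹ := by group
      rw [e3]
      generalize g⁻¹ * t * g = t at ht
      by_cases htV : t ∈ V₂
      · rw [gV t htV]; exact hVL htV
      · have h1 := qR t ht htV
        have e2 : t = x * (x * t) := by rw [← mul_assoc, o.sq x hxN, one_mul]
        rw [e2]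
        have e4 : g * (x * (x * t)) * g⁻¹ = g * x * g⁻¹ * (g * (x * t) * g⁻¹) := by group
        rw [e4, gx, gV _ h1]
        exact mul_mem hx' (hVL h1)
    · rw [Side.card_conj, hL.2.2.1]
      exact c8.symm.le

theorem smul_TS {g : G} (hg1 : g ∈ cz v₁) (hg2 : g ∈ cz v₂) {n : ℕ} {L : Ln G}
    (hL : L ∈ TS (cz v₁) (nc v₁ {v₂}) v₂ n) : g • L ∈ TS (cz v₁) (nc v₁ {v₂}) v₂ n := by
  have o := P.rk.o
  have hr : g * v₂ * g⁻¹ = v₂ := by rw [mem_cz.1 hg2, mul_inv_cancel_right]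
  refine ⟨?_, ?_, ?_, ?_⟩
  · rw [ln_smul, ← hr]
    exact mem_sm.2 hL.1
  · intro t ht
    rw [ln_smul, mem_conj] at ht
    have := o.nor g hg1 _ (hL.2.1 ht)
    rwa [show g * (g⁻¹ * t * g) * g⁻¹ = t by group] at this
  · rw [ln_smul, Side.card_conj]
    exact hL.2.2.1
  · intro t ht
    rw [ln_smul, mem_conj] at ht
    have h1 := o.inv g hg1 _ (hL.2.1 ht)
    rw [show g * (g⁻¹ * t * g) * g⁻¹ = t by group] at h1
    rw [h1]
    exact hL.2.2.2 _ ht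

/-- the flags of the quadrangle -/
theorem flags
    (hT : ∀ x, x ∈ T ↔ x ∈ cz v₁ ∧ x ∈ cz v₂ ∧ x ∈ normalizer (V₁ : Set G) ∧ x ∈ normalizer (V₂ : Set G))
    (hi : PP i = PM v₁ v₂ V₁) (hj : PP j = PM v₁ v₂ V₂) :
    Flags T (PP i) (PP j) (TS (cz v₁) (nc v₁ {v₂}) v₂ 4) (TS (cz v₁) (nc v₁ {v₂}) v₂ 8) inc2 ⟨V₂⟩ ⟨RR v₁ v₂ l⟩ := by
  have hM : ∀ g, g ∈ PP i ∨ g ∈ PP j → g ∈ cz v₁ ∧ g ∈ cz v₂ := by
    rintro g (hg | hg)
    · rw [hi] at hg; exact hg.1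
    · rw [hj] at hg; exact hg.1
  exact
    { hp := V2_TS h hnl hI hl P
      hl := R_TS h hnl hI hl P
      hpl := P.V2R
      Bi := by
        rw [hi]
        intro x hx
        have := (hT x).1 hx
        exact ⟨⟨this.1, this.2.1⟩, this.2.2.1⟩
      Bj := by
        rw [hj]
        intro x hx
        have := (hT x).1 hx
        exact ⟨⟨this.1, this.2.1⟩, this.2.2.2⟩
      pts := fun g hg x hx => smul_TS h hnl hI hl P (hM g hg).1 (hM g hg).2 hx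
      lns := fun g hg x hx => smul_TS h hnl hI hl P (hM g hg).1 (hM g hg).2 hx
      inc' := fun g hg x hx y hy hxy => by
        intro t ht
        rw [ln_smul, mem_conj] at ht ⊢
        exact hxy ht
      fixl := fun g hg => by
        rw [hi] at hg
        apply ln_ext
        exact conj_eq (P.nor ⟨hg.1.1, hg.2⟩)
      fixp := fun g hg => by
        rw [hj] at hg
        apply ln_ext
        exact conj_eq hg.2
      trp := fun L hL hLR => by
        obtain ⟨g, hg, e⟩ := move_line h hnl hI hl P hLR hL.2.2.1 hL.1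
        exact ⟨g, by rw [hi]; exact hg, ln_ext e⟩
      trl := fun L hL hpL => by
        obtain ⟨g, hg, e⟩ := move_plane h hnl hI hl P hL hpL
        exact ⟨g, by rw [hj]; exact hg, ln_ext e⟩
      stab := fun g hg hp hL => by
        have h1 : g ∈ cz v₁ ⊓ cz v₂ :=
          (sup_le (fun x hx => hM x (Or.inl hx)) (fun x hx => hM x (Or.inr hx)) : PP i ⊔ PP j ≤ cz v₁ ⊓ cz v₂) hg
        have h2 : g ∈ normalizer (V₂ : Set G) := mem_normalizer_of_conj (congrArg Ln.val hp)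
        have h3 : g ∈ normalizer (RR v₁ v₂ l : Set G) := mem_normalizer_of_conj (congrArg Ln.val hL)
        exact (hT g).2 ⟨h1.1, h1.2, nM h hI P h1.1 h1.2 h3, h2⟩ }

end main

end Cfsg.Agent.Omega.IId.Pf.Quad

end

section


/-!
# II.d, CASE 1, `q = 2`, case B: the system of type `F₄`

helper310.  `sysL` : `⟨C₁, C₂⟩` has a system of parabolics of type `F₄` (`FreeLoc.SysL`) with all `q i = 2` and
`B = U = T`.
-/

set_option autoImplicit false
set_option linter.unusedSectionVars false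
set_option linter.unusedVariables false

namespace Cfsg.Agent.Omega.IId.Pf.Sys

open Cfsg.Agent.Omega.TV hiding z2
open Subgroup Cfsg Cfsg.Agent.ZN Cfsg.Agent.Omega.IId.PlaneSy Cfsg.Agent.Omega.IId.PlaneRk
open Cfsg.Agent.Omega.IId.PlaneF Cfsg.Agent.Omega.IId.PlaneOf
open Cfsg.Agent.Omega.IId.One Cfsg.Agent.Omega.IId.SpSide
open Cfsg.Agent.Omega.MinPar
open Cfsg.Agent.Omega.IId.Pf.Rad Cfsg.Agent.Omega.IId.Pf.Par Cfsg.Agent.Omega.IId.Pf.Idx
open Cfsg.Agent.Omega.IId.Pf.Geo Cfsg.Agent.Omega.IId.Pf.Quad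
open Cfsg.Agent.ParSys Cfsg.Agent.ParSys.Free Cfsg.Agent.ParSys.RankTwo Cfsg.Agent.ParSys.FlagGP

universe u

variable {G : Type u} [Group G]

/-- the minimal parabolics -/
def PF (v₁ v₂ : G) (V₁ V₂ : Subgroup G) : Fin 4 → Subgroup G :=
  ![PE v₂ V₁ V₂, PM v₁ v₂ V₂, PM v₁ v₂ V₁, PE v₁ V₁ V₂]

section

variable (v₁ v₂ : G) (V₁ V₂ : Subgroup G)

theorem PF0 : PF v₁ v₂ V₁ V₂ 0 = PE v₂ V₁ V₂ := rfl
theorem PF1 : PF v₁ v₂ V₁ V₂ 1 = PM v₁ v₂ V₂ := rfl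
theorem PF2 : PF v₁ v₂ V₁ V₂ 2 = PM v₁ v₂ V₁ := rfl
theorem PF3 : PF v₁ v₂ V₁ V₂ 3 = PE v₁ V₁ V₂ := rfl

end

variable [Finite G] {T V₁ V₂ L₁ L₂ : Subgroup G} {v₁ v₂ s : G}
  (h : One T V₁ V₂ L₁ L₂ v₁ v₂ s) (hnl : NonLoc (cz v₁) (cz v₂))
  (hI : ∃ x ∈ nc v₁ {v₂}, ∃ y ∈ nc v₂ {v₁}, x * y ≠ y * x)

include h hnl hI

/-- a plane on side 1 -/
theorem plane1 : ∃ v' w, ∃ l ∈ L₁, Plane V₁ V₂ v₁ v₂ v' w l := by
  obtain ⟨x, hx, hx1, hxv⟩ := exists_x h
  obtain ⟨w, l, hl, P⟩ := exists_plane h hI hx hx1 hxv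
  exact ⟨x, w, l, hl, P⟩

theorem T_iff' : ∀ x, x ∈ T ↔ x ∈ cz v₁ ∧ x ∈ cz v₂ ∧ x ∈ normalizer (V₁ : Set G) ∧ x ∈ normalizer (V₂ : Set G) := by
  obtain ⟨v', w, l, hl, P⟩ := plane1 h hnl hI
  exact fun x => T_iff h hnl hI hl P

theorem le_PF : ∀ i, T ≤ PF v₁ v₂ V₁ V₂ i := by
  have hT := T_iff' h hnl hI
  intro i
  fin_cases i
  · intro x hx
    have := (hT x).1 hx
    exact ⟨this.2.1, this.2.2⟩
  · intro x hx
    have := (hT x).1 hx
    exact ⟨⟨this.1, this.2.1⟩, this.2.2.2⟩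
  · intro x hx
    have := (hT x).1 hx
    exact ⟨⟨this.1, this.2.1⟩, this.2.2.1⟩
  · intro x hx
    have := (hT x).1 hx
    exact ⟨this.1, this.2.2⟩

theorem PF_le : ∀ i, PF v₁ v₂ V₁ V₂ i ≤ cz v₁ ⊔ cz v₂ := by
  intro i
  fin_cases i
  · exact inf_le_left.trans le_sup_right
  · exact (inf_le_left.trans inf_le_left).trans le_sup_left
  · exact (inf_le_left.trans inf_le_left).trans le_sup_left
  · exact inf_le_left.trans le_sup_left

theorem gen_PF : cz v₁ ⊔ cz v₂ ≤ ⨆ i, PF v₁ v₂ V₁ V₂ i := by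
  obtain ⟨v', w, l, hl, P⟩ := plane1 h hnl hI
  have o₁ := P.rk.o
  have o₂ := h.symm.orth (One.hI_symm hI)
  have hi : ∀ i, PF v₁ v₂ V₁ V₂ i ≤ ⨆ i, PF v₁ v₂ V₁ V₂ i := fun i => le_iSup (fun i => PF v₁ v₂ V₁ V₂ i) i
  have hM : cz v₁ ⊓ cz v₂ ≤ ⨆ i, PF v₁ v₂ V₁ V₂ i :=
    (gen_M h hnl hI hl P).trans (sup_le (hi 2) (hi 1))
  have hL2 : L₂ ≤ ⨆ i, PF v₁ v₂ V₁ V₂ i := (L2_PE h.toBase).trans (hi 3)
  have hL1 : L₁ ≤ ⨆ i, PF v₁ v₂ V₁ V₂ i := by
    refine le_trans ?_ (hi 0)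
    have := L2_PE h.toBase.symm
    rwa [PE_comm] at this
  refine sup_le ((gen h o₁).trans (sup_le hM hL2)) ((gen h.symm o₂).trans (sup_le ?_ hL1))
  rw [inf_comm]
  exact hM

theorem card_PF : ∀ i, T.relIndex (PF v₁ v₂ V₁ V₂ i) = 3 := by
  obtain ⟨v', w, l, hl, P⟩ := plane1 h hnl hI
  obtain ⟨v'', w', l', hl', P'⟩ := plane1 h.symm hnl.symm (One.hI_symm hI)
  intro i
  fin_cases i
  · have := idx_PE h.symm hnl.symm (One.hI_symm hI) hl' P'
    rwa [PE_comm] at this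
  · have := idx_PM h.symm hnl.symm (One.hI_symm hI) hl' P'
    rwa [PM_comm] at this
  · exact idx_PM h hnl hI hl P
  · exact idx_PE h hnl hI hl P

/-- the rank two residues -/
theorem gp_PF : ∀ i j, i ≠ j → GPp T (PF v₁ v₂ V₁ V₂) i j (CoxeterMatrix.F₄ i j) := by
  obtain ⟨v', w, l, hl, P⟩ := plane1 h hnl hI
  obtain ⟨v'', w', l', hl', P'⟩ := plane1 h.symm hnl.symm (One.hI_symm hI)
  have hT := T_iff' h hnl hI
  have hT' : ∀ x, x ∈ T ↔ x ∈ cz v₂ ∧ x ∈ cz v₁ ∧ x ∈ normalizer (V₂ : Set G) ∧ x ∈ normalizer (V₁ : Set G) := by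
    intro x
    rw [hT x]
    tauto
  have hBP := le_PF h hnl hI
  have g01 := plane_gp h.symm hnl.symm (One.hI_symm hI) hl' P' hT' (i := (0 : Fin 4)) (j := 1) (PP := PF v₁ v₂ V₁ V₂)
    (by decide) hBP (PE_comm _ _ _).symm (PM_comm _ _ _).symm
  have g32 := plane_gp h hnl hI hl P hT (i := (3 : Fin 4)) (j := 2) (PP := PF v₁ v₂ V₁ V₂) (by decide) hBP rfl rfl
  have F := Quad.flags h hnl hI hl P hT (i := (2 : Fin 4)) (j := 1) (PP := PF v₁ v₂ V₁ V₂) rfl rfl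
  have g21 := F.gpp_four hBP (by decide)
    (fun p hp p' hp' hpp l hl l' hl' h1 h2 h3 h4 => pu P.rk.o hp hp' hpp hl hl' h1 h2 h3 h4)
    (fun p hp l hl hpl => quad_q P.rk.o h.v2 (P.rk.card_N P.four) hp hl hpl)
  have g03 := digon_E h.toBase hT (i := (0 : Fin 4)) (j := 3) (PP := PF v₁ v₂ V₁ V₂) hBP rfl rfl
  have g13 := digon_M h.toBase hT (i := (1 : Fin 4)) (j := 3) (PP := PF v₁ v₂ V₁ V₂) hBP rfl rfl
  have g20 := digon_M h.toBase.symm hT' (i := (2 : Fin 4)) (j := 0) (PP := PF v₁ v₂ V₁ V₂) hBP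
    (PM_comm _ _ _).symm (PE_comm _ _ _).symm
  intro i j hij
  fin_cases i <;> fin_cases j
  · exact absurd rfl hij
  · exact g01.1
  · exact g20.2
  · exact g03.1
  · exact g01.2
  · exact absurd rfl hij
  · exact g21.2
  · exact g13.1
  · exact g20.1
  · exact g21.1
  · exact absurd rfl hij
  · exact g32.2
  · exact g03.2
  · exact g13.2
  · exact g32.1
  · exact absurd rfl hij

/-- a 2-group normalised by `⟨C₁, C₂⟩` is trivial -/
theorem core {g : G} (hg : g ∈ T) (hc : ∀ x ∈ cz v₁ ⊔ cz v₂, x⁻¹ * g * x ∈ T) : g = 1 := by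
  set G₀ := cz v₁ ⊔ cz v₂ with hG₀
  let U : Subgroup G := closure {y | ∃ x ∈ G₀, y = x⁻¹ * g * x}
  have hU : U ≤ T := by
    rw [closure_le]
    rintro _ ⟨x, hx, rfl⟩
    exact hc x hx
  have hn : G₀ ≤ normalizer (U : Set G) := by
    intro k hk
    apply Cfsg.Agent.MinSimple.VModule.mem_normalizer_of_map_le
    rw [MonoidHom.map_closure, closure_le]
    rintro _ ⟨y, ⟨x, hx, rfl⟩, rfl⟩
    refine subset_closure ⟨x * k⁻¹, mul_mem hx (inv_mem hk), ?_⟩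
    show k * (x⁻¹ * g * x) * k⁻¹ = _
    group
  have h1 := hnl U (h.pT.to_le hU) (le_sup_left.trans hn) (le_sup_right.trans hn)
  have h2 : g ∈ U := subset_closure ⟨1, one_mem _, by group⟩
  rwa [h1, mem_bot] at h2

/-- **The system of type `F₄`.** -/
theorem sysL : FreeLoc.SysL CoxeterMatrix.F₄.toCoxeterSystem (T.subgroupOf (cz v₁ ⊔ cz v₂))
    (fun i => (PF v₁ v₂ V₁ V₂ i).subgroupOf (cz v₁ ⊔ cz v₂)) (T.subgroupOf (cz v₁ ⊔ cz v₂)) (fun _ => 2) := by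
  have hBP := le_PF h hnl hI
  have hPG := PF_le h hnl hI
  have hc3 := card_PF h hnl hI
  have hle : ∀ i, T.subgroupOf (cz v₁ ⊔ cz v₂) ≤ (PF v₁ v₂ V₁ V₂ i).subgroupOf (cz v₁ ⊔ cz v₂) := fun i x hx => hBP i hx
  have hidx : ∀ i, (T.subgroupOf (cz v₁ ⊔ cz v₂)).relIndex ((PF v₁ v₂ V₁ V₂ i).subgroupOf (cz v₁ ⊔ cz v₂)) = 3 := by
    intro i
    rw [relIndex_subgroupOf (hPG i), hc3 i]
  refine
    { le := hle
      gen := ?_
      gp := ?_
      card := hidx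
      two := fun i => le_rfl
      U_le := le_rfl
      pan := ?_
      clo := fun i g hg x hx hgx => hgx
      core := ?_ }
  · have h1 := gen_PF h hnl hI
    apply Subgroup.map_injective (cz v₁ ⊔ cz v₂).subtype_injective
    rw [Subgroup.map_iSup, ← MonoidHom.range_eq_map, Subgroup.range_subtype]
    apply le_antisymm
    · refine iSup_le fun i => ?_
      rw [subgroupOf_map_subtype]
      exact inf_le_right
    · refine h1.trans (iSup_le fun i => ?_)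
      refine le_trans ?_ (le_iSup _ i)
      rw [subgroupOf_map_subtype]
      exact le_inf le_rfl (hPG i)
  · rw [gp_iff]
    intro i j hij
    exact gpp_restrict hBP hPG (gp_PF h hnl hI i j hij)
  · intro i g hg x hx hxB hgx y hy
    exact pan_three (P := fun i => (PF v₁ v₂ V₁ V₂ i).subgroupOf (cz v₁ ⊔ cz v₂)) (hle i) (hidx i) hg hx hxB hgx hy
  · intro g hg hx
    apply Subtype.ext
    exact core h hnl hI hg fun x hxG => hx ⟨x, hxG⟩

end Cfsg.Agent.Omega.IId.Pf.Sys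

end

end
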